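import Cfsg.Agent.Lib.Perm.SingerPoint.Main

/-!
# No linear group of dimension `n` acts on `2 ^ n` points with a Singer cycle in the stabiliser, except for `n = 3`
-/

set_option autoImplicit false
set_option linter.unusedSectionVars false
set_option linter.style.haveILetI false

open MulAction

namespace Cfsg.Agent.Perm.SingerPoint

universe u v w

/-- A group acting transitively on `2 ^ n` points and by automorphisms on an elementary abelian group `U` of
order `2 ^ n`, with point stabiliser inducing an odd order group normalising a cyclic group transitive on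
`U` and on the other points, induces the group of order 168 with `n = 3`, unless something centralising `U`
moves the point. -/
theorem linear {Y : Type u} [Group Y] [Finite Y] {Ω : Type v} [MulAction Y Ω] {U : Type w} [CommGroup U]
    [Finite U] {n : ℕ} (hn : 3 ≤ n) (a : Ω) (hcard : Nat.card Ω = 2 ^ n) (htrans : IsPretransitive Y Ω)
    (hexp : ∀ u : U, u * u = 1) (hU : Nat.card U = 2 ^ n) (ρ : Y →* MulAut U)
    (hker : ∀ g : Y, ρ g = 1 → g • a = a) (S : Subgroup (MulAut U)) (hcyc : IsCyclic S)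
    (hStr : ∀ u v : U, u ≠ 1 → v ≠ 1 → ∃ s ∈ S, s u = v)
    (hSle : S ≤ (stabilizer Y a).map ρ)
    (hnor : (stabilizer Y a).map ρ ≤ Subgroup.normalizer (S : Set (MulAut U)))
    (hodd : Odd (Nat.card ((stabilizer Y a).map ρ)))
    (hreg : ∀ b : Ω, b ≠ a → ∀ c : Ω, c ≠ a → ∃ g : Y, ρ g ∈ S ∧ g • a = a ∧ g • b = c) :
    n = 3 ∧ Nat.card ρ.range = 168 := by
  classical
  haveI := htrans
  haveI : Finite Ω := Nat.finite_of_card_ne_zero (by rw [hcard]; exact (Nat.two_pow_pos n).ne')
  haveI : Nontrivial U := Finite.one_lt_card_iff_nontrivial.mp (hU ▸ Nat.one_lt_two_pow (by omega))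
  obtain ⟨u₀, hu₀⟩ := _root_.exists_ne (1 : U)
  have hScomm : ∀ s ∈ S, ∀ t ∈ S, s * t = t * s := by
    intro s hs t ht
    obtain ⟨g, hg⟩ := hcyc.exists_generator
    obtain ⟨i, hi⟩ := Subgroup.mem_zpowers_iff.mp (hg ⟨s, hs⟩)
    obtain ⟨j, hj⟩ := Subgroup.mem_zpowers_iff.mp (hg ⟨t, ht⟩)
    have h1 : (⟨s, hs⟩ : S) * ⟨t, ht⟩ = ⟨t, ht⟩ * ⟨s, hs⟩ := by
      rw [← hi, ← hj, ← zpow_add, ← zpow_add, add_comm]
    exact congrArg Subtype.val h1
  have hSext : ∀ f : MulAut U, (∀ s ∈ S, f * s = s * f) → ∀ s₁ ∈ S, f u₀ = s₁ u₀ → f = s₁ := by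
    intro f hf s₁ hs₁ he
    refine MulEquiv.ext fun u => ?_
    by_cases hu : u = 1
    · rw [hu, map_one, map_one]
    obtain ⟨s, hs, rfl⟩ := hStr u₀ u hu₀ hu
    rw [← MulAut.mul_apply, hf s hs, MulAut.mul_apply, he, ← MulAut.mul_apply, hScomm s hs s₁ hs₁,
      MulAut.mul_apply]
  have hScard : Nat.card S = 2 ^ n - 1 := by
    have hbij : Function.Bijective (fun s : S => (⟨(s : MulAut U) u₀,
        fun e => hu₀ ((s : MulAut U).injective (e.trans (map_one _).symm))⟩ : {u : U // u ≠ 1})) := by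
      refine ⟨fun s t e => Subtype.ext (hSext _ (fun r hr => hScomm _ s.2 _ hr) _ t.2 (congrArg Subtype.val e)),
        fun u => ?_⟩
      obtain ⟨s, hs, e⟩ := hStr u₀ u.1 hu₀ u.2
      exact ⟨⟨s, hs⟩, Subtype.ext e⟩
    have h1 : Set.ncard ({u : U | u ≠ 1} : Set U) = 2 ^ n - 1 := by
      rw [show ({u : U | u ≠ 1} : Set U) = Set.univ \ {1} by ext u; simp,
        Set.ncard_sdiff_singleton_of_mem (Set.mem_univ _), Set.ncard_univ, hU]
    rw [Nat.card_congr (Equiv.ofBijective _ hbij)]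
    exact h1
  -- the action of the induced group
  have hkle : ρ.rangeRestrict.ker ≤ (MulAction.toPermHom Y Ω).ker := by
    intro g hg
    rw [MonoidHom.mem_ker] at hg ⊢
    have hg1 : ρ g = 1 := congrArg Subtype.val hg
    refine Equiv.ext fun c => ?_
    obtain ⟨k, rfl⟩ := exists_smul_eq Y a c
    show g • k • a = k • a
    have h1 := hker (k⁻¹ * g * k) (by rw [map_mul, map_mul, hg1, mul_one, map_inv, inv_mul_cancel])
    rwa [mul_smul, mul_smul, inv_smul_eq_iff] at h1
  let ψ : ρ.range →* Equiv.Perm Ω :=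
    ρ.rangeRestrict.liftOfSurjective ρ.rangeRestrict_surjective ⟨MulAction.toPermHom Y Ω, hkle⟩
  letI : MulAction ρ.range Ω := MulAction.compHom Ω ψ
  have hsmul : ∀ (g : Y) (c : Ω), (ρ.rangeRestrict g) • c = g • c := fun g c => by
    show ψ (ρ.rangeRestrict g) c = g • c
    have h1 : ψ (ρ.rangeRestrict g) = MulAction.toPermHom Y Ω g :=
      MonoidHom.liftOfRightInverse_comp_apply _ _ (Function.rightInverse_surjInv ρ.rangeRestrict_surjective) _ g
    rw [h1]
    rfl
  set S' : Subgroup ρ.range := S.subgroupOf ρ.range with hS'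
  have hSrange : S ≤ ρ.range := hSle.trans (Subgroup.map_le_range _ _)
  have hlift : ∀ s : ρ.range, s ∈ S' → s • a = a := by
    intro s hs
    obtain ⟨g, hg, e⟩ := hSle (Subgroup.mem_subgroupOf.mp hs)
    rw [show s = ρ.rangeRestrict g from Subtype.ext e.symm, hsmul]
    exact hg
  have hinj : ∀ b : Ω, b ≠ a → ∀ s t : ρ.range, s ∈ S' → t ∈ S' → s • b = t • b → s = t := by
    intro b hb s t hs ht e
    let f : S' → {c : Ω // c ≠ a} := fun r => ⟨(r : ρ.range) • b, fun e1 =>
      hb (smul_left_cancel (r : ρ.range) (e1.trans (hlift _ r.2).symm))⟩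
    have hsurj : Function.Surjective f := by
      intro c
      obtain ⟨g, hgS, -, hgb⟩ := hreg b hb c.1 c.2
      exact ⟨⟨ρ.rangeRestrict g, Subgroup.mem_subgroupOf.mpr hgS⟩, Subtype.ext ((hsmul g b).trans hgb)⟩
    have hcc : Nat.card S' = Nat.card {c : Ω // c ≠ a} := by
      rw [hS', Nat.card_congr (Subgroup.subgroupOfEquivOfLe hSrange).toEquiv, hScard]
      show _ = Set.ncard ({c : Ω | c ≠ a} : Set Ω)
      rw [show ({c : Ω | c ≠ a} : Set Ω) = Set.univ \ {a} by ext c; simp,
        Set.ncard_sdiff_singleton_of_mem (Set.mem_univ _), Set.ncard_univ, hcard]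
    have hi := ((Nat.bijective_iff_surjective_and_card f).mpr ⟨hsurj, hcc⟩).1
    exact congrArg Subtype.val (@hi ⟨s, hs⟩ ⟨t, ht⟩ (Subtype.ext e))
  have hstab : ∀ x : ρ.range, x • a = a → (x : MulAut U) ∈ (stabilizer Y a).map ρ := by
    rintro ⟨_, g, rfl⟩ hx
    refine ⟨g, ?_, rfl⟩
    rw [SetLike.mem_coe, mem_stabilizer_iff, ← hsmul]
    exact hx
  have hnor' : stabilizer ρ.range a ≤ Subgroup.normalizer (S' : Set ρ.range) := fun x hx =>
    Subgroup.mem_set_normalizer_iff.mpr fun y => by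
      simp only [SetLike.mem_coe, hS', Subgroup.mem_subgroupOf, Subgroup.coe_mul, Subgroup.coe_inv]
      exact Subgroup.mem_set_normalizer_iff.mp (hnor (hstab x (mem_stabilizer_iff.mp hx))) _
  have hfaith : FaithfulSMul ρ.range Ω := by
    refine ⟨fun {x y} hxy => ?_⟩
    have hk : ∀ c : Ω, (y⁻¹ * x) • c = c := fun c => by rw [mul_smul, hxy, inv_smul_smul]
    set k := y⁻¹ * x with hk'
    have hkS : ∀ s ∈ S, (k : MulAut U) * s = s * k := by
      intro s hs
      have hs' : (⟨s, hSrange hs⟩ : ρ.range) ∈ S' := hs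
      have h1 := (Subgroup.mem_set_normalizer_iff.mp (hnor' (mem_stabilizer_iff.mpr (hk a))) _).mp hs'
      obtain ⟨b, hb⟩ : ∃ b : Ω, b ≠ a := by
        haveI : Nontrivial Ω := Finite.one_lt_card_iff_nontrivial.mp (hcard ▸ Nat.one_lt_two_pow (by omega))
        exact _root_.exists_ne a
      have h2 : (k * ⟨s, hSrange hs⟩ * k⁻¹) • b = (⟨s, hSrange hs⟩ : ρ.range) • b := by
        rw [mul_smul, mul_smul, inv_smul_eq_iff.mpr (hk b).symm, hk]
      have h3 := mul_inv_eq_iff_eq_mul.mp (hinj b hb _ _ h1 hs' h2)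
      exact congrArg Subtype.val h3
    obtain ⟨s₁, hs₁, e⟩ := hStr u₀ ((k : MulAut U) u₀) hu₀
      (fun e => hu₀ ((k : MulAut U).injective (e.trans (map_one _).symm)))
    have hk1 : (k : MulAut U) = s₁ := hSext _ hkS s₁ hs₁ e.symm
    obtain ⟨b, hb⟩ : ∃ b : Ω, b ≠ a := by
      haveI : Nontrivial Ω := Finite.one_lt_card_iff_nontrivial.mp (hcard ▸ Nat.one_lt_two_pow (by omega))
      exact _root_.exists_ne a
    have h1 : k = 1 := hinj b hb k 1 (Subgroup.mem_subgroupOf.mpr (hk1 ▸ hs₁)) (one_mem _)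
      (by rw [one_smul, hk])
    exact (inv_mul_eq_one.mp h1).symm
  have hyp : Hyp n a S' :=
    { trans := ⟨fun x y => by
        obtain ⟨g, hg⟩ := exists_smul_eq Y x y
        exact ⟨ρ.rangeRestrict g, (hsmul g x).trans hg⟩⟩
      faith := hfaith
      card := hcard
      three := hn
      cyc := by
        haveI := hcyc
        exact isCyclic_of_injective (Subgroup.subgroupOfEquivOfLe hSrange).toMonoidHom (MulEquiv.injective _)
      cardS := by rw [hS', Nat.card_congr (Subgroup.subgroupOfEquivOfLe hSrange).toEquiv, hScard]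
      le := fun s hs => mem_stabilizer_iff.mpr (hlift s hs)
      nor := hnor'
      reg := fun b hb c hc => by
        obtain ⟨g, hgS, -, hgb⟩ := hreg b hb c hc
        exact ⟨ρ.rangeRestrict g, Subgroup.mem_subgroupOf.mpr hgS, (hsmul g b).trans hgb⟩
      odd := by
        refine Odd.of_dvd_nat hodd ?_
        have hle : (stabilizer ρ.range a).map ρ.range.subtype ≤ (stabilizer Y a).map ρ := by
          rintro _ ⟨x, hx, rfl⟩
          exact hstab x (mem_stabilizer_iff.mp hx)
        rw [Nat.card_congr ((stabilizer ρ.range a).equivMapOfInjective ρ.range.subtype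
          ρ.range.subtype_injective).toEquiv]
        exact Subgroup.card_dvd_of_le hle
      gal := fun x hx => by
        obtain ⟨i, hi⟩ := gal_of_transitive (by omega) hexp hU hcyc hStr
          (hnor (hstab x (mem_stabilizer_iff.mp hx)))
        exact ⟨i, fun y hy => Subtype.ext (by
          rw [Subgroup.coe_mul, Subgroup.coe_mul, Subgroup.coe_inv, SubmonoidClass.coe_pow]
          exact hi _ (Subgroup.mem_subgroupOf.mp hy))⟩ }
  refine hyp.normal_regular.resolve_left ?_
  rintro ⟨P, hPn, hPc, -⟩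
  have hPp : IsPGroup 2 P := IsPGroup.of_card hPc
  haveI : Finite P := Nat.finite_of_card_ne_zero (by rw [hPc]; exact (Nat.two_pow_pos n).ne')
  letI : MulAction P U := MulAction.compHom U (ρ.range.subtype.comp P.subtype)
  have h2 : 2 ∣ Nat.card (fixedPoints P U) :=
    Nat.modEq_zero_iff_dvd.mp ((hPp.card_modEq_card_fixedPoints U).symm.trans
      (Nat.modEq_zero_iff_dvd.mpr (hU ▸ dvd_pow_self 2 (by omega))))
  have h1 : (1 : U) ∈ fixedPoints P U := fun p => map_one ((p : ρ.range) : MulAut U)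
  haveI : Nonempty (fixedPoints P U) := ⟨⟨1, h1⟩⟩
  haveI : Nontrivial (fixedPoints P U) := Finite.one_lt_card_iff_nontrivial.mp
    (Nat.lt_of_lt_of_le (by norm_num) (Nat.le_of_dvd Nat.card_pos h2))
  obtain ⟨⟨u, hu⟩, hu1⟩ := _root_.exists_ne (⟨1, h1⟩ : fixedPoints P U)
  have hu1' : u ≠ 1 := fun e => hu1 (Subtype.ext e)
  have hall : ∀ p ∈ P, p = 1 := by
    intro p hp
    refine Subtype.ext (MulEquiv.ext fun v => ?_)
    rw [OneMemClass.coe_one, MulAut.one_apply]
    by_cases hv : v = 1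
    · rw [hv, map_one]
    obtain ⟨s, hs, rfl⟩ := hStr u v hu1' hv
    set s' : ρ.range := ⟨s, hSrange hs⟩
    have hc : s'⁻¹ * p * s' ∈ P := by
      have := hPn.conj_mem p hp s'⁻¹
      rwa [inv_inv] at this
    have h3 : (s⁻¹ * (p : MulAut U) * s) u = u := hu ⟨_, hc⟩
    rw [MulAut.mul_apply, MulAut.mul_apply] at h3
    have h4 := congrArg s h3
    rwa [MulAut.apply_inv_self] at h4
  have hbot : P = ⊥ := (Subgroup.eq_bot_iff_forall P).mpr hall
  rw [hbot, Subgroup.card_bot] at hPc
  exact absurd hPc (Nat.one_lt_two_pow (by omega)).ne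

end Cfsg.Agent.Perm.SingerPoint
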