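import Mathlib

/-!
# Transitive groups of degree `2 ^ n` with a Singer cycle in the point stabiliser

The stabiliser of the point `a` normalises a cyclic group `S` of order `2 ^ n - 1` which is regular on the
other points, and induces powers of the squaring map on it; all stabilisers have odd order.
-/

set_option autoImplicit false
set_option linter.unusedSectionVars false
set_option linter.style.haveILetI false

open MulAction

namespace Cfsg.Agent.Perm.SingerPoint

universe u v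

variable {X : Type u} [Group X] {Ω : Type v} [MulAction X Ω]

/-- The standing hypotheses. -/
structure Hyp (n : ℕ) (a : Ω) (S : Subgroup X) : Prop where
  trans : IsPretransitive X Ω
  faith : FaithfulSMul X Ω
  card : Nat.card Ω = 2 ^ n
  three : 3 ≤ n
  cyc : IsCyclic S
  cardS : Nat.card S = 2 ^ n - 1
  le : S ≤ stabilizer X a
  nor : stabilizer X a ≤ Subgroup.normalizer (S : Set X)
  reg : ∀ b : Ω, b ≠ a → ∀ c : Ω, c ≠ a → ∃ y ∈ S, y • b = c
  odd : Odd (Nat.card (stabilizer X a))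
  gal : ∀ g ∈ stabilizer X a, ∃ i : ℕ, ∀ y ∈ S, g * y * g⁻¹ = y ^ (2 ^ i)

variable {n : ℕ} {a : Ω} {S : Subgroup X}

theorem Hyp.comm (h : Hyp n a S) {x y : X} (hx : x ∈ S) (hy : y ∈ S) : x * y = y * x := by
  obtain ⟨g, hg⟩ := h.cyc.exists_generator
  obtain ⟨i, hi⟩ := Subgroup.mem_zpowers_iff.mp (hg ⟨x, hx⟩)
  obtain ⟨j, hj⟩ := Subgroup.mem_zpowers_iff.mp (hg ⟨y, hy⟩)
  have e : (⟨x, hx⟩ : S) * ⟨y, hy⟩ = ⟨y, hy⟩ * ⟨x, hx⟩ := by
    rw [← hi, ← hj, ← zpow_add, ← zpow_add, add_comm]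
  exact congrArg Subtype.val e

theorem Hyp.fix_a (h : Hyp n a S) {y : X} (hy : y ∈ S) : y • a = a := mem_stabilizer_iff.mp (h.le hy)

theorem Hyp.semireg (h : Hyp n a S) {y : X} (hy : y ∈ S) {b : Ω} (hb : b ≠ a) (hyb : y • b = b) :
    y = 1 := by
  haveI := h.faith
  refine eq_of_smul_eq_smul fun c : Ω => ?_
  rw [one_smul]
  by_cases hc : c = a
  · rw [hc, h.fix_a hy]
  obtain ⟨z, hz, rfl⟩ := h.reg b hb c hc
  rw [← mul_smul, h.comm hy hz, mul_smul, hyb]

theorem Hyp.mem_stab (h : Hyp n a S) {y : X} {b : Ω} (hy : y ∈ S) (hb : b ≠ a) : y • b ≠ a := fun e =>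
  hb (smul_left_cancel y (e.trans (h.fix_a hy).symm))

theorem Hyp.card_omega_pos (h : Hyp n a S) : 0 < Nat.card Ω := h.card ▸ Nat.two_pow_pos n

theorem Hyp.finite_omega (h : Hyp n a S) : Finite Ω := Nat.finite_of_card_ne_zero h.card_omega_pos.ne'

theorem Hyp.exists_ne (h : Hyp n a S) : ∃ b : Ω, b ≠ a := by
  haveI := h.finite_omega
  haveI : Nontrivial Ω := Finite.one_lt_card_iff_nontrivial.mp
    (h.card ▸ Nat.one_lt_two_pow (by have := h.three; omega))
  exact _root_.exists_ne a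

/-- Every element of the point stabiliser is a product of an element of `S` and one fixing `b`. -/
theorem Hyp.split (h : Hyp n a S) {b : Ω} (hb : b ≠ a) {g : X} (hg : g • a = a) :
    ∃ y ∈ S, (y⁻¹ * g) • a = a ∧ (y⁻¹ * g) • b = b := by
  have hgb : g • b ≠ a := fun e => hb (smul_left_cancel g (e.trans hg.symm))
  obtain ⟨y, hy, e⟩ := h.reg b hb _ hgb
  refine ⟨y, hy, ?_, ?_⟩
  · rw [mul_smul, hg, h.fix_a (inv_mem hy)]
  · rw [mul_smul, ← e, inv_smul_smul]

theorem Hyp.two_trans (h : Hyp n a S) {x y c d : Ω} (hxy : x ≠ y) (hcd : c ≠ d) :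
    ∃ g : X, g • x = c ∧ g • y = d := by
  haveI := h.trans
  obtain ⟨g, hg⟩ := exists_smul_eq X x a
  obtain ⟨k, hk⟩ := exists_smul_eq X c a
  have h1 : g • y ≠ a := fun e => hxy.symm (smul_left_cancel g (e.trans hg.symm))
  have h2 : k • d ≠ a := fun e => hcd.symm (smul_left_cancel k (e.trans hk.symm))
  obtain ⟨s, hs, e⟩ := h.reg _ h1 _ h2
  refine ⟨k⁻¹ * (s * g), ?_, ?_⟩
  · rw [mul_smul, mul_smul, hg, h.fix_a hs, inv_smul_eq_iff, hk]
  · rw [mul_smul, mul_smul, e, inv_smul_smul]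

theorem Hyp.card_stab (h : Hyp n a S) [Finite X] {b : Ω} (hb : b ≠ a) :
    Nat.card (stabilizer X a) =
      (2 ^ n - 1) * Nat.card (stabilizer X a ⊓ stabilizer X b : Subgroup X) := by
  have e1 : (stabilizer X a ⊓ stabilizer X b).subgroupOf (stabilizer X a) =
      stabilizer (stabilizer X a) b := by
    ext g
    rw [Subgroup.mem_subgroupOf, Subgroup.mem_inf]
    exact ⟨fun hg => mem_stabilizer_iff.mpr (mem_stabilizer_iff.mp hg.2),
      fun hg => ⟨g.2, mem_stabilizer_iff.mpr (mem_stabilizer_iff.mp hg)⟩⟩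
  have e2 : orbit (stabilizer X a) b = {c : Ω | c ≠ a} := by
    ext c
    refine ⟨?_, fun hc => ?_⟩
    · rintro ⟨g, rfl⟩ e
      exact hb (smul_left_cancel (g : X) (e.trans (mem_stabilizer_iff.mp g.2).symm))
    · obtain ⟨y, hy, rfl⟩ := h.reg b hb c hc
      exact ⟨⟨y, h.le hy⟩, rfl⟩
  have h3 := (stabilizer (stabilizer X a) b).index_mul_card
  rw [index_stabilizer, e2, ← e1,
    Nat.card_congr (Subgroup.subgroupOfEquivOfLe inf_le_left).toEquiv] at h3
  have h4 : Set.ncard {c : Ω | c ≠ a} = 2 ^ n - 1 := by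
    haveI := h.finite_omega
    have h5 : ({c : Ω | c ≠ a} : Set Ω) = Set.univ \ {a} := by ext c; simp
    rw [h5, Set.ncard_sdiff_singleton_of_mem (Set.mem_univ a), Set.ncard_univ, h.card]
  rw [← h3, h4]

theorem Hyp.card_group (h : Hyp n a S) [Finite X] :
    Nat.card X = 2 ^ n * Nat.card (stabilizer X a) := by
  haveI := h.trans
  rw [← (stabilizer X a).index_mul_card, index_stabilizer_of_transitive, h.card]

theorem Hyp.odd_stab (h : Hyp n a S) [Finite X] (c : Ω) : Odd (Nat.card (stabilizer X c)) := by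
  haveI := h.trans
  obtain ⟨g, rfl⟩ := exists_smul_eq X a c
  rw [stabilizer_smul_eq_stabilizer_map_conj,
    ← Nat.card_congr ((stabilizer X a).equivMapOfInjective _ (MulEquiv.injective _)).toEquiv]
  exact h.odd

theorem Hyp.coprime (h : Hyp n a S) [Finite X] :
    Nat.Coprime (2 ^ n) (Nat.card (stabilizer X a)) :=
  Nat.Coprime.pow_left n (Nat.coprime_two_left.mpr h.odd)

/-- An element with a fixed point has order dividing the order of the point stabiliser. -/
theorem Hyp.pow_card_stab (h : Hyp n a S) [Finite X] {g : X} {c : Ω} (hg : g • c = c) :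
    g ^ Nat.card (stabilizer X a) = 1 := by
  haveI := h.trans
  obtain ⟨k, rfl⟩ := exists_smul_eq X a c
  have hm : k⁻¹ * g * k ∈ stabilizer X a := by
    rw [mem_stabilizer_iff, mul_smul, mul_smul, hg, inv_smul_smul]
  have h1 := pow_card_eq_one' (x := (⟨_, hm⟩ : stabilizer X a))
  have h2 : (k⁻¹ * g * k) ^ Nat.card (stabilizer X a) = 1 := congrArg Subtype.val h1
  have h3 : (k⁻¹ * g * k) = MulAut.conj k⁻¹ g := by rw [MulAut.conj_apply, inv_inv]
  rw [h3, ← map_pow] at h2
  exact (MulAut.conj k⁻¹).injective (by rw [h2, map_one])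

/-! ### The action of a two-point stabiliser on `S` -/

theorem two_pow_congr (hn : 1 ≤ n) (i j : ℕ) :
    2 ^ i ≡ 2 ^ j [MOD 2 ^ n - 1] ↔ i ≡ j [MOD n] := by
  have hone : 2 ^ n ≡ 1 [MOD 2 ^ n - 1] := by
    apply Nat.ModEq.symm
    rw [Nat.modEq_iff_dvd' Nat.one_le_two_pow]
  have hred : ∀ i : ℕ, 2 ^ i ≡ 2 ^ (i % n) [MOD 2 ^ n - 1] := by
    intro i
    conv_lhs => rw [← Nat.div_add_mod i n, pow_add, pow_mul]
    simpa using (hone.pow (i / n)).mul_right (2 ^ (i % n))
  refine ⟨fun hij => ?_, fun hij => (hred i).trans (hij ▸ (hred j).symm)⟩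
  have h1 : 2 ^ (i % n) ≡ 2 ^ (j % n) [MOD 2 ^ n - 1] := ((hred i).symm.trans hij).trans (hred j)
  have hlt : ∀ k : ℕ, 2 ^ (k % n) < 2 ^ n - 1 ∨ n = 1 := by
    intro k
    by_cases hn1 : n = 1
    · exact Or.inr hn1
    left
    have hk := Nat.mod_lt k (show n > 0 by omega)
    have h2 : 2 ^ (k % n) * 2 ≤ 2 ^ n := by
      rw [← pow_succ]
      exact Nat.pow_le_pow_right (by norm_num) hk
    have h3 : 2 ^ 1 < 2 ^ n := Nat.pow_lt_pow_right (by norm_num) (by omega)
    omega
  rcases hlt i with hi | rfl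
  · rcases hlt j with hj | rfl
    · exact Nat.pow_right_injective le_rfl (h1.eq_of_lt_of_lt hi hj)
    · exact Nat.modEq_one
  · exact Nat.modEq_one

theorem Hyp.commute_iff_pow (h : Hyp n a S) {b : Ω} (hb : b ≠ a) {g : X} (hga : g • a = a) (hgb : g • b = b) :
    (∀ y ∈ S, g * y * g⁻¹ = y) ↔ g = 1 := by
  refine ⟨fun hc => ?_, fun e y _ => by rw [e, one_mul, inv_one, mul_one]⟩
  haveI := h.faith
  refine eq_of_smul_eq_smul fun c : Ω => ?_
  rw [one_smul]
  by_cases hca : c = a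
  · rw [hca, hga]
  obtain ⟨y, hy, rfl⟩ := h.reg b hb c hca
  calc g • y • b = (g * y * g⁻¹) • g • b := by rw [← mul_smul, ← mul_smul, inv_mul_cancel_right]
    _ = y • b := by rw [hc y hy, hgb]

/-- The exponent of an element of the point stabiliser and the number of its fixed points. -/
theorem Hyp.exists_exp (h : Hyp n a S) [Finite X] {b : Ω} (hb : b ≠ a) {g : X}
    (hga : g • a = a) (hgb : g • b = b) :
    ∃ i : ℕ, (∀ y ∈ S, g * y * g⁻¹ = y ^ (2 ^ i)) ∧ orderOf g = n / n.gcd i ∧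
      Nat.card {c : Ω // g • c = c} = 2 ^ (n.gcd i) := by
  obtain ⟨i, hi⟩ := h.gal g (mem_stabilizer_iff.mpr hga)
  have hn : 1 ≤ n := le_trans (by norm_num) h.three
  obtain ⟨s, hs⟩ := h.cyc.exists_generator
  have hos : orderOf (s : X) = 2 ^ n - 1 := by
    rw [Subgroup.orderOf_coe, ← h.cardS, orderOf_eq_card_of_forall_mem_zpowers hs]
  have hpow : ∀ k : ℕ, ∀ y ∈ S, g ^ k * y * (g ^ k)⁻¹ = y ^ (2 ^ (i * k)) := by
    intro k
    induction k with
    | zero => intro y _; simp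
    | succ k ih =>
      intro y hy
      calc g ^ (k + 1) * y * (g ^ (k + 1))⁻¹ = g * (g ^ k * y * (g ^ k)⁻¹) * g⁻¹ := by
            rw [pow_succ']; group
        _ = y ^ (2 ^ (i * (k + 1))) := by
            rw [ih y hy, hi _ (pow_mem hy _), ← pow_mul, ← pow_add, ← Nat.mul_succ]
  have hk : ∀ k : ℕ, g ^ k = 1 ↔ n ∣ i * k := by
    intro k
    have h1 : (g ^ k) • a = a :=
      mem_stabilizer_iff.mp (pow_mem (mem_stabilizer_iff.mpr hga) k)
    have h2 : (g ^ k) • b = b :=
      mem_stabilizer_iff.mp (pow_mem (mem_stabilizer_iff.mpr hgb) k)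
    rw [← h.commute_iff_pow hb h1 h2]
    refine ⟨fun hc => ?_, fun hd y hy => ?_⟩
    · have e : (s : X) ^ (2 ^ (i * k)) = (s : X) ^ (2 ^ 0) := by
        rw [← hpow k _ s.2, hc _ s.2, pow_zero, pow_one]
      rw [pow_inj_mod, hos] at e
      exact Nat.modEq_zero_iff_dvd.mp ((two_pow_congr hn _ _).mp e)
    · rw [hpow k y hy]
      have ho : orderOf y ∣ 2 ^ n - 1 := by
        rw [← Subgroup.orderOf_mk y hy, ← h.cardS]
        exact orderOf_dvd_natCard _
      conv_rhs => rw [← pow_one y]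
      exact pow_eq_pow_iff_modEq.mpr
        (((two_pow_congr hn (i * k) 0).mpr (Nat.modEq_zero_iff_dvd.mpr hd)).of_dvd ho)
  have hgd : 0 < n.gcd i := Nat.gcd_pos_of_pos_left _ hn
  refine ⟨i, hi, ?_, ?_⟩
  · obtain ⟨n', i', hcop, e1, e2⟩ := Nat.exists_coprime n i
    refine Nat.dvd_antisymm (orderOf_dvd_of_pow_eq_one ((hk _).mpr ?_)) ?_
    · conv_lhs => rw [← Nat.div_mul_cancel (Nat.gcd_dvd_left n i)]
      rw [mul_comm i]
      exact Nat.mul_dvd_mul_left _ (Nat.gcd_dvd_right n i)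
    · have h3 := (hk _).mp (pow_orderOf_eq_one g)
      have h4 : n / n.gcd i = n' := by
        conv_lhs => arg 1; rw [e1]
        exact Nat.mul_div_cancel _ hgd
      rw [h4]
      refine hcop.dvd_of_dvd_mul_left ?_
      refine Nat.dvd_of_mul_dvd_mul_right hgd ?_
      rw [← e1, mul_right_comm, ← e2]
      exact h3
  · haveI := h.finite_omega
    let f : {y : S // y ^ (2 ^ i) = y} → {c : Ω // g • c = c ∧ c ≠ a} := fun y =>
      ⟨(y.1 : X) • b, by
        refine ⟨?_, h.mem_stab y.1.2 hb⟩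
        calc g • (y.1 : X) • b = (g * y.1 * g⁻¹) • g • b := by
              rw [← mul_smul, ← mul_smul, inv_mul_cancel_right]
          _ = (y.1 : X) • b := by
              rw [hi _ y.1.2, hgb, ← Subgroup.coe_pow, y.2]⟩
    have hf : Function.Bijective f := by
      refine ⟨fun y z e => ?_, fun c => ?_⟩
      · have e1 : (y.1 : X) • b = (z.1 : X) • b := congrArg Subtype.val e
        have e2 : ((z.1 : X)⁻¹ * y.1) • b = b := by rw [mul_smul, e1, inv_smul_smul]
        have e3 := h.semireg (mul_mem (inv_mem z.1.2) y.1.2) hb e2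
        exact Subtype.ext (Subtype.ext (inv_mul_eq_one.mp e3).symm)
      · obtain ⟨y, hy, e⟩ := h.reg b hb _ c.2.2
        refine ⟨⟨⟨y, hy⟩, Subtype.ext ?_⟩, Subtype.ext e⟩
        have e1 : (g * y * g⁻¹) • b = y • b := by
          conv_lhs => rw [mul_smul, mul_smul, show g⁻¹ • b = b from inv_smul_eq_iff.mpr hgb.symm]
          rw [e]
          exact c.2.1
        rw [hi y hy] at e1
        have e2 : (y⁻¹ * y ^ (2 ^ i)) • b = b := by rw [mul_smul, e1, inv_smul_smul]
        have e3 := inv_mul_eq_one.mp (h.semireg (mul_mem (inv_mem hy) (pow_mem hy _)) hb e2)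
        exact e3.symm
    have hc1 : Nat.card {y : S // y ^ (2 ^ i) = y} = 2 ^ (n.gcd i) - 1 := by
      haveI : IsCyclic S := h.cyc
      letI : CommGroup S := IsCyclic.commGroup
      have e : ∀ y : S, y ^ (2 ^ i) = y ↔ y ∈ (powMonoidHom (2 ^ i - 1) : S →* S).ker := by
        intro y
        rw [MonoidHom.mem_ker, powMonoidHom_apply]
        conv_lhs => rw [← Nat.sub_add_cancel (Nat.one_le_two_pow (n := i)), pow_succ]
        exact mul_eq_right
      rw [Nat.card_congr (Equiv.subtypeEquivRight e), IsCyclic.card_powMonoidHom_ker, h.cardS,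
        Nat.pow_sub_one_gcd_pow_sub_one]
    have hc2 : Nat.card {c : Ω // g • c = c ∧ c ≠ a} = 2 ^ (n.gcd i) - 1 := by
      rw [← Nat.card_congr (Equiv.ofBijective f hf), hc1]
    have h5 : ({c : Ω | g • c = c ∧ c ≠ a} : Set Ω) = {c : Ω | g • c = c} \ {a} := rfl
    have h6 : Set.ncard {c : Ω | g • c = c ∧ c ≠ a} = 2 ^ (n.gcd i) - 1 := hc2
    rw [h5, Set.ncard_sdiff_singleton_of_mem (show a ∈ {c : Ω | g • c = c} from hga)] at h6
    have h7 : 0 < Set.ncard {c : Ω | g • c = c} :=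
      (Set.ncard_pos (Set.toFinite _)).mpr ⟨a, hga⟩
    have h8 := Nat.one_le_two_pow (n := n.gcd i)
    show Set.ncard {c : Ω | g • c = c} = _
    omega

/-- The number of fixed points of an element fixing two points. -/
theorem Hyp.card_fix (h : Hyp n a S) [Finite X] {b : Ω} (hb : b ≠ a) {g : X} (hg1 : g ≠ 1)
    (hga : g • a = a) (hgb : g • b = b) :
    orderOf g ∣ n ∧ 2 ≤ orderOf g ∧ Nat.card {c : Ω // g • c = c} = 2 ^ (n / orderOf g) := by
  obtain ⟨i, -, ho, hc⟩ := h.exists_exp hb hga hgb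
  have hd := Nat.gcd_dvd_left n i
  have hn : n ≠ 0 := by have := h.three; omega
  refine ⟨ho ▸ Nat.div_dvd_of_dvd hd, ?_, ?_⟩
  · have h0 := orderOf_pos g
    have h1 : orderOf g ≠ 1 := fun e => hg1 (orderOf_eq_one_iff.mp e)
    omega
  · rw [hc, ho, Nat.div_div_self hd hn]

/-- The two-point stabilisers are cyclic of order dividing `n`. -/
theorem Hyp.two_point (h : Hyp n a S) [Finite X] {b : Ω} (hb : b ≠ a) :
    IsCyclic (stabilizer X a ⊓ stabilizer X b : Subgroup X) ∧
      Nat.card (stabilizer X a ⊓ stabilizer X b : Subgroup X) ∣ n := by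
  classical
  set P : Subgroup X := stabilizer X a ⊓ stabilizer X b
  have hn : 1 ≤ n := le_trans (by norm_num) h.three
  obtain ⟨s, hs⟩ := h.cyc.exists_generator
  have hos : orderOf (s : X) = 2 ^ n - 1 := by
    rw [Subgroup.orderOf_coe, ← h.cardS, orderOf_eq_card_of_forall_mem_zpowers hs]
  have hmem : ∀ g : P, (g : X) • a = a ∧ (g : X) • b = b := fun g =>
    ⟨mem_stabilizer_iff.mp g.2.1, mem_stabilizer_iff.mp g.2.2⟩
  choose e he using fun g : P => h.gal (g : X) g.2.1
  have huniq : ∀ i j : ℕ, (s : X) ^ (2 ^ i) = (s : X) ^ (2 ^ j) → (i : ZMod n) = (j : ZMod n) := by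
    intro i j hij
    rw [pow_inj_mod, hos] at hij
    exact (ZMod.natCast_eq_natCast_iff _ _ _).mpr ((two_pow_congr hn i j).mp hij)
  let f : P →* Multiplicative (ZMod n) :=
    MonoidHom.mk' (fun g => Multiplicative.ofAdd (e g : ZMod n)) fun g k => by
      rw [← ofAdd_add, ← Nat.cast_add]
      refine congrArg Multiplicative.ofAdd (huniq _ _ ?_)
      calc (s : X) ^ (2 ^ e (g * k)) = (g * k : P) * (s : X) * ((g * k : P) : X)⁻¹ := (he _ _ s.2).symm
        _ = (g : X) * ((k : X) * s * (k : X)⁻¹) * (g : X)⁻¹ := by rw [Subgroup.coe_mul]; group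
        _ = _ := by rw [he k _ s.2, he g _ (pow_mem s.2 _), ← pow_mul, ← pow_add, add_comm]
  have hf : Function.Injective f := by
    rw [injective_iff_map_eq_one]
    intro g hg
    have h1 : (e g : ZMod n) = ((0 : ℕ) : ZMod n) := by simpa [f] using hg
    refine Subtype.ext ((h.commute_iff_pow hb (hmem g).1 (hmem g).2).mp fun y hy => ?_)
    rw [he g y hy]
    have ho : orderOf y ∣ 2 ^ n - 1 := by
      rw [← Subgroup.orderOf_mk y hy, ← h.cardS]
      exact orderOf_dvd_natCard _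
    have h2 := (two_pow_congr hn (e g) 0).mpr ((ZMod.natCast_eq_natCast_iff _ _ _).mp h1)
    conv_rhs => rw [← pow_one y]
    exact pow_eq_pow_iff_modEq.mpr (h2.of_dvd ho)
  haveI : NeZero n := ⟨by omega⟩
  refine ⟨isCyclic_of_injective f hf, ?_⟩
  have h1 := Subgroup.card_dvd_of_injective f hf
  rwa [Nat.card_congr Multiplicative.toAdd, Nat.card_zmod] at h1

end Cfsg.Agent.Perm.SingerPoint
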