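import Cfsg.Agent.Lib.Perm.SingerPoint.Basic

/-!
# Counting the elements without fixed points

If every element fixing two points has a centraliser transitive on its fixed points, then at most
`2 ^ n - 1` fixed-point-free elements have order a power of two, so the Sylow 2-subgroup is normal.
-/

set_option autoImplicit false
set_option linter.unusedSectionVars false
set_option linter.style.haveILetI false

open MulAction

namespace Cfsg.Agent.Perm.SingerPoint

universe u v

variable {X : Type u} [Group X] [Finite X] {Ω : Type v} [MulAction X Ω] {n : ℕ} {a : Ω} {S : Subgroup X}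

/-- The centraliser of an element fixing two points contains many elements of two-power order. -/
theorem Hyp.exists_two_set (h : Hyp n a S)
    (hC : ∀ b : Ω, b ≠ a → ∀ g : X, g ≠ 1 → g • a = a → g • b = b →
      ∀ c : Ω, g • c = c → ∃ k : X, k * g = g * k ∧ k • a = c)
    {g : X} (hg : g ≠ 1) {x y : Ω} (hxy : x ≠ y) (hx : g • x = x) (hy : g • y = y) :
    ∃ E : Finset X, E.card = Nat.card {c : Ω // g • c = c} - 1 ∧
      ∀ e ∈ E, e ≠ 1 ∧ e * g = g * e ∧ e ^ (2 ^ n) = 1 := by
  classical
  haveI := h.finite_omega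
  haveI := Fintype.ofFinite X
  obtain ⟨b, hb⟩ := h.exists_ne
  obtain ⟨k, hka, hkb⟩ := h.two_trans hxy (Ne.symm hb)
  have h1 : (k * g * k⁻¹) • a = a := by
    rw [mul_smul, mul_smul, inv_smul_eq_iff.mpr hka.symm, hx, hka]
  have h2 : (k * g * k⁻¹) • b = b := by
    rw [mul_smul, mul_smul, inv_smul_eq_iff.mpr hkb.symm, hy, hkb]
  have hne : k * g * k⁻¹ ≠ 1 := fun e => hg (conj_eq_one_iff.mp e)
  obtain ⟨hdvd, -, hcard⟩ := h.card_fix hb hne h1 h2
  set m := n / orderOf (k * g * k⁻¹) with hm
  have hmn : m ≤ n := Nat.div_le_self _ _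
  have hfix : Nat.card {c : Ω // g • c = c} = 2 ^ m := by
    rw [← hcard]
    refine Nat.card_congr (Equiv.subtypeEquiv (toPerm k) fun c => ?_)
    rw [toPerm_apply, mul_smul, mul_smul, inv_smul_smul]
    exact ⟨fun e => by rw [e], fun e => smul_left_cancel k e⟩
  -- the centraliser is transitive on the fixed points
  have horb : orbit (Subgroup.centralizer ({g} : Set X)) x = {c : Ω | g • c = c} := by
    ext c
    refine ⟨?_, fun hc => ?_⟩
    · rintro ⟨d, rfl⟩
      show g • (d : X) • x = (d : X) • x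
      rw [← mul_smul, Subgroup.mem_centralizer_singleton_iff.mp d.2 |>.symm, mul_smul, hx]
    · have hc' : (k * g * k⁻¹) • (k • c) = k • c := by
        rw [mul_smul, mul_smul, inv_smul_smul, hc]
      obtain ⟨d, hd, e⟩ := hC b hb _ hne h1 h2 _ hc'
      refine ⟨⟨k⁻¹ * d * k, Subgroup.mem_centralizer_singleton_iff.mpr ?_⟩, ?_⟩
      · calc k⁻¹ * d * k * g = k⁻¹ * (d * (k * g * k⁻¹)) * k := by group
          _ = g * (k⁻¹ * d * k) := by rw [hd]; group
      · show (k⁻¹ * d * k) • x = c
        rw [mul_smul, mul_smul, hka, e, inv_smul_smul]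
  have hdiv : 2 ^ m ∣ Nat.card (Subgroup.centralizer ({g} : Set X)) := by
    rw [← hfix]
    have h3 : (stabilizer (Subgroup.centralizer ({g} : Set X)) x).index =
        Nat.card {c : Ω // g • c = c} := by
      rw [index_stabilizer, horb]
      rfl
    exact h3 ▸ Subgroup.index_dvd_card _
  obtain ⟨Q, hQ⟩ := Sylow.exists_subgroup_card_pow_prime 2 hdiv
  refine ⟨((Finset.univ : Finset Q).erase 1).image (fun q : Q => ((q : Subgroup.centralizer ({g} : Set X)) : X)),
    ?_, ?_⟩
  · rw [Finset.card_image_of_injective _ fun p q e => Subtype.ext (Subtype.ext e),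
      Finset.card_erase_of_mem (Finset.mem_univ _), Finset.card_univ, ← Nat.card_eq_fintype_card, hQ, hfix]
  · intro e he
    obtain ⟨q, hq, rfl⟩ := Finset.mem_image.mp he
    refine ⟨fun e1 => (Finset.mem_erase.mp hq).1 (Subtype.ext (Subtype.ext e1)),
      Subgroup.mem_centralizer_singleton_iff.mp (q : Subgroup.centralizer ({g} : Set X)).2, ?_⟩
    have e1 : q ^ (2 ^ n) = 1 := by
      rw [← Nat.sub_add_cancel hmn, pow_add, mul_comm, pow_mul, ← hQ, pow_card_eq_one', one_pow]
    exact congrArg (fun r : Q => ((r : Subgroup.centralizer ({g} : Set X)) : X)) e1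

/-- A regular normal subgroup of order `2 ^ n`. -/
theorem Hyp.regular_of_centralizer (h : Hyp n a S)
    (hC : ∀ b : Ω, b ≠ a → ∀ g : X, g ≠ 1 → g • a = a → g • b = b →
      ∀ c : Ω, g • c = c → ∃ k : X, k * g = g * k ∧ k • a = c) :
    ∃ P : Subgroup X, P.Normal ∧ Nat.card P = 2 ^ n ∧ IsPretransitive P Ω := by
  classical
  haveI := h.trans
  haveI := h.finite_omega
  haveI := h.faith
  haveI := Fintype.ofFinite X
  haveI := Fintype.ofFinite Ω
  set K := Nat.card (stabilizer X a)
  set N := 2 ^ n with hN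
  set f : X → ℕ := fun g => Nat.card {c : Ω // g • c = c} with hf
  have hcop : Nat.Coprime N K := h.coprime
  have htwo : ∀ z : X, z ^ N = 1 → z ≠ 1 → ∀ c : Ω, z • c ≠ c := by
    intro z hz hz1 c hc
    have h1 := pow_gcd_eq_one.mpr ⟨hz, h.pow_card_stab hc⟩
    rw [hcop, pow_one] at h1
    exact hz1 h1
  -- Burnside
  have hburn : ∑ g : X, f g = Nat.card X := by
    haveI : ∀ g : X, Fintype (fixedBy Ω g) := fun g => Fintype.ofFinite _
    have h1 := sum_card_fixedBy_eq_card_orbits_mul_card_group X Ω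
    have h2 : Fintype.card (orbitRel.Quotient X Ω) = 1 :=
      Fintype.card_eq_one_iff.mpr ⟨Quotient.mk'' a, fun q => by
        induction q using Quotient.inductionOn' with
        | h c => exact Quotient.eq''.mpr (exists_smul_eq X a c)⟩
    rw [h2, one_mul, ← Nat.card_eq_fintype_card] at h1
    rw [← h1]
    exact Finset.sum_congr rfl fun g _ => Nat.card_eq_fintype_card (α := fixedBy Ω g)
  have hf1 : f 1 = N := by
    show Nat.card {c : Ω // (1 : X) • c = c} = N
    rw [Nat.card_congr (Equiv.subtypeUnivEquiv fun c => one_smul X c), h.card]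
  set D : Finset X := Finset.univ.filter fun g => f g = 0 with hD
  set A : Finset X := Finset.univ.filter fun g => g ≠ 1 ∧ 2 ≤ f g with hA
  have hsum : (∑ g ∈ A, (f g - 1)) + (N - 1) = D.card := by
    have h1 : ∀ g : X, f g + (if f g = 0 then 1 else 0) = 1 + (f g - 1) := fun g => by
      split_ifs <;> omega
    have h2 : ∑ g : X, f g + D.card = Nat.card X + ∑ g : X, (f g - 1) := by
      rw [hD, Finset.card_filter, ← Finset.sum_add_distrib, Finset.sum_congr rfl fun g _ => h1 g,
        Finset.sum_add_distrib, Finset.sum_const, Finset.card_univ, ← Nat.card_eq_fintype_card,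
        smul_eq_mul, mul_one]
    have h3 : ∑ g : X, (f g - 1) = (f 1 - 1) + ∑ g ∈ A, (f g - 1) := by
      rw [← Finset.add_sum_erase _ _ (Finset.mem_univ (1 : X))]
      congr 1
      refine (Finset.sum_subset (fun g hg => ?_) fun g hg hg' => ?_).symm
      · exact Finset.mem_erase.mpr ⟨(Finset.mem_filter.mp hg).2.1, Finset.mem_univ _⟩
      · by_contra h4
        exact hg' (Finset.mem_filter.mpr ⟨Finset.mem_univ _, (Finset.mem_erase.mp hg).1, by omega⟩)
    rw [hburn] at h2
    rw [h3, hf1] at h2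
    omega
  -- the set of two-power elements for each element fixing two points
  have hex : ∀ g : X, g ∈ A → ∃ E : Finset X, E.card = f g - 1 ∧
      ∀ e ∈ E, e ≠ 1 ∧ e * g = g * e ∧ e ^ N = 1 := by
    intro g hg
    obtain ⟨-, hg1, hg2⟩ := Finset.mem_filter.mp hg
    obtain ⟨⟨x, hx⟩, ⟨y, hy⟩, hxy⟩ := (Finite.one_lt_card_iff_nontrivial.mp
      (show 1 < Nat.card {c : Ω // g • c = c} by change 1 < f g; omega)).exists_pair_ne
    exact h.exists_two_set hC hg1 (fun e => hxy (Subtype.ext e)) hx hy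
  choose! E hEc hE using hex
  have hgK : ∀ g ∈ A, g ^ K = 1 := by
    intro g hg
    obtain ⟨-, -, hg2⟩ := Finset.mem_filter.mp hg
    obtain ⟨⟨c, hc⟩⟩ : Nonempty {c : Ω // g • c = c} :=
      Finite.card_pos_iff.mp (show 0 < f g by omega)
    exact h.pow_card_stab hc
  have hmap : ∀ p ∈ A.sigma E, p.1 * p.2 ∈ D.filter fun z => z ^ N ≠ 1 := by
    rintro ⟨g, e⟩ hp
    obtain ⟨hg, he⟩ := Finset.mem_sigma.mp hp
    obtain ⟨he1, hcomm, heN⟩ := hE g hg e he
    obtain ⟨-, hg1, -⟩ := Finset.mem_filter.mp hg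
    have hpN : (g * e) ^ N = g ^ N := by
      rw [(show Commute g e from hcomm.symm).mul_pow, heN, mul_one]
    refine Finset.mem_filter.mpr ⟨Finset.mem_filter.mpr ⟨Finset.mem_univ _, ?_⟩, ?_⟩
    · by_contra h0
      obtain ⟨⟨c, hc⟩⟩ : Nonempty {c : Ω // (g * e) • c = c} :=
        Finite.card_pos_iff.mp (Nat.pos_of_ne_zero h0)
      have h1 := h.pow_card_stab hc
      rw [(show Commute g e from hcomm.symm).mul_pow, hgK g hg, one_mul] at h1
      have h2 := pow_gcd_eq_one.mpr ⟨heN, h1⟩
      rw [hcop, pow_one] at h2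
      exact he1 h2
    · intro h0
      have h1 : g ^ N = 1 := hpN ▸ h0
      have h2 := pow_gcd_eq_one.mpr ⟨h1, hgK g hg⟩
      rw [hcop, pow_one] at h2
      exact hg1 h2
  have hinj : Set.InjOn (fun p : (_ : X) × X => p.1 * p.2) (A.sigma E : Finset _) := by
    rintro ⟨g, e⟩ hp ⟨g', e'⟩ hp' heq
    obtain ⟨hg, he⟩ := Finset.mem_sigma.mp (Finset.mem_coe.mp hp)
    obtain ⟨hg', he'⟩ := Finset.mem_sigma.mp (Finset.mem_coe.mp hp')
    obtain ⟨-, hcomm, heN⟩ := hE g hg e he
    obtain ⟨-, hcomm', heN'⟩ := hE g' hg' e' he'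
    change g * e = g' * e' at heq
    have h1 : g ^ N = g' ^ N := by
      have h2 := congrArg (· ^ N) heq
      simpa only [(show Commute g e from hcomm.symm).mul_pow, (show Commute g' e' from hcomm'.symm).mul_pow,
        heN, heN', mul_one] using h2
    have h3 : g = g' := by
      have h4 : ∀ w : X, w ^ K = 1 → (w ^ N) ^ (Nat.gcdA N K) = w := fun w hw => by
        conv_rhs => rw [← zpow_one w, show (1 : ℤ) = (N : ℤ) * Nat.gcdA N K + (K : ℤ) * Nat.gcdB N K by
          rw [← Nat.gcd_eq_gcd_ab, hcop, Nat.cast_one]]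
        rw [zpow_add, zpow_mul, zpow_mul, zpow_natCast, zpow_natCast, hw, one_zpow, mul_one]
      rw [← h4 g (hgK g hg), h1, h4 g' (hgK g' hg')]
    subst h3
    rw [mul_left_cancel heq]
  have hU : ∑ g ∈ A, (f g - 1) ≤ (D.filter fun z => z ^ N ≠ 1).card := by
    rw [← Finset.sum_congr rfl hEc, ← Finset.card_sigma]
    exact Finset.card_le_card_of_injOn _ hmap hinj
  have hT : (D.filter fun z => z ^ N = 1).card ≤ N - 1 := by
    simp only [ne_eq] at hU
    have := Finset.card_filter_add_card_filter_not (s := D) (p := fun z => z ^ N = 1)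
    omega
  have hdvd : 2 ^ n ∣ Nat.card X := h.card_group ▸ dvd_mul_right _ _
  obtain ⟨P, hP⟩ := Sylow.exists_subgroup_card_pow_prime 2 hdvd
  have hPT : ((Finset.univ : Finset P).erase 1).image (fun p : P => (p : X)) = D.filter fun z => z ^ N = 1 := by
    refine Finset.eq_of_subset_of_card_le (fun z hz => ?_) ?_
    · obtain ⟨p, hp, rfl⟩ := Finset.mem_image.mp hz
      have h1 : (p : X) ^ N = 1 := by
        have h2 := congrArg Subtype.val (pow_card_eq_one' (x := p))
        rwa [hP] at h2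
      refine Finset.mem_filter.mpr ⟨Finset.mem_filter.mpr ⟨Finset.mem_univ _, ?_⟩, h1⟩
      have h3 : IsEmpty {c : Ω // (p : X) • c = c} :=
        ⟨fun c => htwo _ h1 (fun e => (Finset.mem_erase.mp hp).1 (Subtype.ext e)) c.1 c.2⟩
      exact Nat.card_of_isEmpty
    · rw [Finset.card_image_of_injective _ Subtype.val_injective,
        Finset.card_erase_of_mem (Finset.mem_univ _), Finset.card_univ, ← Nat.card_eq_fintype_card, hP]
      exact hT
  have hmemP : ∀ z : X, z ^ N = 1 → z ∈ P := by
    intro z hz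
    by_cases hz1 : z = 1
    · exact hz1 ▸ one_mem P
    have h1 : z ∈ D.filter fun z => z ^ N = 1 := Finset.mem_filter.mpr
      ⟨Finset.mem_filter.mpr ⟨Finset.mem_univ _, by
        have h3 : IsEmpty {c : Ω // z • c = c} := ⟨fun c => htwo z hz hz1 c.1 c.2⟩
        exact Nat.card_of_isEmpty⟩, hz⟩
    rw [← hPT] at h1
    obtain ⟨p, -, rfl⟩ := Finset.mem_image.mp h1
    exact p.2
  refine ⟨P, ⟨fun p hp x => hmemP _ ?_⟩, hP, ?_⟩
  · have h2 := congrArg Subtype.val (pow_card_eq_one' (x := (⟨p, hp⟩ : P)))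
    rw [hP] at h2
    rw [conj_pow, show p ^ N = 1 from h2, mul_one, mul_inv_cancel]
  · have hst : stabilizer P a = ⊥ := by
      refine (Subgroup.eq_bot_iff_forall _).mpr fun p hp => ?_
      by_contra hp1
      have h2 := congrArg Subtype.val (pow_card_eq_one' (x := p))
      rw [hP] at h2
      exact htwo _ h2 (fun e => hp1 (Subtype.ext e)) a hp
    have h1 := index_stabilizer P a
    rw [hst, Subgroup.index_bot, hP, ← h.card] at h1
    have h2 : orbit P a = Set.univ :=
      Set.eq_of_subset_of_ncard_le (Set.subset_univ _) (by rw [Set.ncard_univ, h1]) (Set.toFinite _)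
    exact ⟨fun x y => by
      obtain ⟨p, rfl⟩ : x ∈ orbit P a := h2 ▸ Set.mem_univ x
      obtain ⟨q, rfl⟩ : y ∈ orbit P a := h2 ▸ Set.mem_univ y
      exact ⟨q * p⁻¹, by simp [mul_smul]⟩⟩

end Cfsg.Agent.Perm.SingerPoint
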