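import Cfsg.Agent.Lib.Perm.SingerPoint.Basic
import Cfsg.Agent.Lib.Char.TIFamilyColumn
import Cfsg.Agent.Lib.Char.AbelianTIDegree
import Cfsg.Agent.Lib.Char.Exceptional

/-!
# The case `d = n` prime with an inverted generator is impossible for `n ≥ 5`

The exceptional characters of the cyclic group of order `2 ^ n - 1` have degree `n`, and the square of the
absolute value of one of them has no decomposition.
-/

set_option autoImplicit false
set_option linter.unusedSectionVars false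
set_option linter.style.haveILetI false

open MulAction
open scoped ComplexConjugate

namespace Cfsg.Agent.Perm.SingerPoint

open Cfsg Cfsg.Agent.Char

universe u v

theorem pow_bounds {n : ℕ} (h5 : 5 ≤ n) :
    n * n + n + 2 ≤ 2 ^ n ∧ 2 * n + 2 ≤ 2 ^ n ∧ (7 ≤ n → n * n + 2 * n + 4 ≤ 2 ^ n) := by
  have h : ∀ m, 5 ≤ m → m * m + m + 2 ≤ 2 ^ m ∧ (7 ≤ m → m * m + 2 * m + 4 ≤ 2 ^ m) := by
    intro m hm
    induction m, hm using Nat.le_induction with
    | base => norm_num
    | succ k hk ih =>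
      rw [pow_succ]
      refine ⟨by nlinarith [ih.1], fun h7 => ?_⟩
      rcases lt_or_ge k 7 with hk7 | hk7
      · obtain rfl : k = 6 := by omega
        norm_num
      · nlinarith [ih.2 hk7]
  exact ⟨(h n h5).1, by nlinarith [(h n h5).1], (h n h5).2⟩

theorem column_normSq {H : Type*} [Group H] [Fintype H] (k : H) :
    ∑ χ : IrrCharacter H, Complex.normSq ((χ : H → ℂ) k) =
      (Nat.card (Subgroup.centralizer ({k} : Set H)) : ℝ) := by
  classical
  have h := second_orth (G := H) k k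
  rw [if_pos (IsConj.refl k)] at h
  have h3 : (Nat.card H : ℂ) / (Nat.card {x : H // IsConj k x} : ℂ) =
      (Nat.card (Subgroup.centralizer ({k} : Set H)) : ℂ) := by
    rw [div_eq_iff (Nat.cast_ne_zero.2 (card_conjClass_ne_zero k)),
      ← Nat.cast_mul, mul_comm, card_conjClass_mul_centralizer]
  rw [h3] at h
  simp only [Complex.mul_conj] at h
  exact_mod_cast h

variable {X : Type u} [Group X] [Finite X] {Ω : Type v} [MulAction X Ω] {n : ℕ} {a : Ω} {S : Subgroup X}

set_option maxHeartbeats 1000000 in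
theorem Hyp.singer_facts (h : Hyp n a S) (hp : n.Prime) (h5 : 5 ≤ n) {b : Ω} (hb : b ≠ a)
    (hΦ : Nat.card (stabilizer X a ⊓ stabilizer X b : Subgroup X) = n) :
    (∀ y ∈ S, y ≠ 1 → Subgroup.centralizer ({y} : Set X) ≤ S) ∧
      Subgroup.normalizer (S : Set X) = stabilizer X a ∧
      (∀ g : X, g ∉ Subgroup.normalizer (S : Set X) → ∀ k ∈ S, g * k * g⁻¹ ∈ S → k = 1) ∧
      (∀ y ∈ S, y ≠ 1 → Nat.card (Subgroup.centralizer ({y} : Set X)) = 2 ^ n - 1) ∧
      Nat.card X = 2 ^ n * ((2 ^ n - 1) * n) := by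
  classical
  haveI := h.finite_omega
  obtain ⟨hb1, hb2, hb3⟩ := pow_bounds h5
  set q := 2 ^ n with hq
  have hcardS : Nat.card S = q - 1 := h.cardS
  -- the elements of `S` are self centralising
  have hC : ∀ y ∈ S, y ≠ 1 → Subgroup.centralizer ({y} : Set X) ≤ S := by
    intro y hy hy1 g hg
    have hgy := Subgroup.mem_centralizer_singleton_iff.mp hg
    have hga : g • a = a := by
      by_contra hne
      refine hy1 (h.semireg hy hne ?_)
      rw [← mul_smul, ← hgy, mul_smul, h.fix_a hy]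
    obtain ⟨z, hz, hφa, hφb⟩ := h.split hb hga
    set φ := z⁻¹ * g with hφ
    have hφy : φ * y = y * φ := by
      calc φ * y = z⁻¹ * (g * y) := by rw [hφ, mul_assoc]
        _ = (z⁻¹ * y) * g := by rw [hgy, mul_assoc]
        _ = y * φ := by rw [h.comm (inv_mem hz) hy, hφ, mul_assoc]
    by_cases hφ1 : φ = 1
    · rw [inv_mul_eq_one.mp hφ1] at hz
      exact hz
    exfalso
    obtain ⟨hd, h2, hc⟩ := h.card_fix hb hφ1 hφa hφb
    have ho : orderOf φ = n := (hp.eq_one_or_self_of_dvd _ hd).resolve_left (by omega)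
    rw [ho, Nat.div_self hp.pos, pow_one] at hc
    have hyb : φ • y • b = y • b := by rw [← mul_smul, hφy, mul_smul, hφb]
    have hsub : ({a, b, y • b} : Set Ω) ⊆ {c | φ • c = c} := by
      rintro c (rfl | rfl | rfl)
      exacts [hφa, hφb, hyb]
    have h3 : ({a, b, y • b} : Set Ω).ncard = 3 :=
      Set.ncard_eq_three.mpr ⟨a, b, y • b, hb.symm, (h.mem_stab hy hb).symm,
        fun e => hy1 (h.semireg hy hb e.symm), rfl⟩
    have h4 := Set.ncard_le_ncard hsub (Set.toFinite _)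
    have h6 : Set.ncard {c : Ω | φ • c = c} = 2 := hc
    omega
  have hS1 : 1 < Nat.card S := by omega
  have hN : Subgroup.normalizer (S : Set X) = stabilizer X a := by
    refine le_antisymm (fun g hg => ?_) h.nor
    haveI : Nontrivial S := Finite.one_lt_card_iff_nontrivial.mp hS1
    obtain ⟨⟨y, hy⟩, hy1⟩ := _root_.exists_ne (1 : S)
    have hgy : g * y * g⁻¹ ∈ S := (Subgroup.mem_set_normalizer_iff.mp hg y).mp hy
    have h1 := h.fix_a hgy
    rw [mul_smul, mul_smul, smul_eq_iff_eq_inv_smul] at h1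
    rw [mem_stabilizer_iff]
    by_contra hne
    exact hy1 (Subtype.ext (h.semireg hy (fun e => hne (inv_smul_eq_iff.mp e).symm) h1))
  have hTI : ∀ g : X, g ∉ Subgroup.normalizer (S : Set X) → ∀ k ∈ S, g * k * g⁻¹ ∈ S → k = 1 := by
    intro g hg k hk hgk
    have h1 := h.fix_a hgk
    rw [mul_smul, mul_smul, smul_eq_iff_eq_inv_smul] at h1
    refine h.semireg hk (fun e => hg ?_) h1
    rw [hN, mem_stabilizer_iff]
    exact (inv_smul_eq_iff.mp e).symm
  have hCS : ∀ y ∈ S, y ≠ 1 → Nat.card (Subgroup.centralizer ({y} : Set X)) = q - 1 := by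
    intro y hy hy1
    have e : Subgroup.centralizer ({y} : Set X) = S := le_antisymm (hC y hy hy1) fun z hz =>
      Subgroup.mem_centralizer_singleton_iff.mpr (h.comm hz hy)
    rw [e, hcardS]
  exact ⟨hC, hN, hTI, hCS, by rw [h.card_group, h.card_stab hb, hΦ]⟩

set_option maxHeartbeats 1000000 in
/-- Every normal subgroup containing `S` is the whole group. -/
theorem Hyp.normal_eq_top (h : Hyp n a S) (hp : n.Prime) (h5 : 5 ≤ n) {b : Ω} (hb : b ≠ a)
    (hΦ : Nat.card (stabilizer X a ⊓ stabilizer X b : Subgroup X) = n)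
    {x : X} (hxa : x • a = a) (hxb : x • b = b) (hx1 : x ≠ 1) (w : X) (hw : w * x * w⁻¹ = x⁻¹)
    (K : Subgroup X) (hKn : K.Normal) (hSK : S ≤ K) : K = ⊤ := by
  classical
  haveI := h.finite_omega
  haveI := h.trans
  haveI := h.faith
  have hb2 := (pow_bounds h5).2.1
  have hS1 : 1 < Nat.card S := by rw [h.cardS]; omega
  haveI : Nontrivial S := Finite.one_lt_card_iff_nontrivial.mp hS1
  obtain ⟨⟨y, hy⟩, hy1'⟩ := _root_.exists_ne (1 : S)
  have hy1 : y ≠ 1 := fun e => hy1' (Subtype.ext e)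
  have hcyc : ∀ g : X, g • a = a → g • b = b → g ∈ Subgroup.zpowers x := by
    intro g hga hgb
    have hle : Subgroup.zpowers x ≤ stabilizer X a ⊓ stabilizer X b :=
      Subgroup.zpowers_le.mpr ⟨mem_stabilizer_iff.mpr hxa, mem_stabilizer_iff.mpr hxb⟩
    obtain ⟨hd, h2, -⟩ := h.card_fix hb hx1 hxa hxb
    have ho : orderOf x = n := (hp.eq_one_or_self_of_dvd _ hd).resolve_left (by omega)
    rw [Subgroup.eq_of_le_of_card_ge hle (by rw [hΦ, Nat.card_zpowers, ho])]
    exact ⟨mem_stabilizer_iff.mpr hga, mem_stabilizer_iff.mpr hgb⟩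
  have htr : ∀ c : Ω, ∃ k ∈ K, k • a = c := by
    obtain ⟨k, hk, hka⟩ : ∃ k ∈ K, k • a ≠ a := by
      by_contra hno
      push Not at hno
      have h1 : ∀ k ∈ K, k = 1 := fun k hk => eq_of_smul_eq_smul fun c : Ω => by
        obtain ⟨g, rfl⟩ := exists_smul_eq X a c
        have := hno _ (hKn.conj_mem k hk g⁻¹)
        rw [inv_inv, mul_smul, mul_smul, inv_smul_eq_iff] at this
        rw [one_smul, this]
      exact hy1 (h1 y (hSK hy))
    intro c
    by_cases hca : c = a
    · exact ⟨1, one_mem K, by rw [one_smul, hca]⟩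
    obtain ⟨z, hz, e⟩ := h.reg _ hka c hca
    exact ⟨z * k, mul_mem (hSK hz) hk, by rw [mul_smul, e]⟩
  let π := QuotientGroup.mk' K
  have hπK : ∀ k ∈ K, π k = 1 := fun k hk => (QuotientGroup.eq_one_iff k).mpr hk
  have hdec : ∀ g : X, π g ∈ Subgroup.zpowers (π x) := by
    intro g
    obtain ⟨k, hk, hka⟩ := htr (g • a)
    have hga : (k⁻¹ * g) • a = a := by rw [mul_smul, ← hka, inv_smul_smul]
    obtain ⟨z, hz, h1, h2⟩ := h.split hb hga
    obtain ⟨j, hj⟩ := Subgroup.mem_zpowers_iff.mp (hcyc _ h1 h2)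
    refine Subgroup.mem_zpowers_iff.mpr ⟨j, ?_⟩
    rw [← map_zpow, hj, map_mul, map_inv, hπK z (hSK hz), inv_one, one_mul, map_mul, map_inv, hπK k hk,
      inv_one, one_mul]
  have hx : π x = 1 := by
    obtain ⟨j, hj⟩ := Subgroup.mem_zpowers_iff.mp (hdec w)
    have h1 : π (w * x * w⁻¹) = π x := by
      rw [map_mul, map_mul, map_inv, ← hj, ← zpow_add_one, ← zpow_neg, ← zpow_add]
      convert zpow_one (π x) using 2
      ring
    rw [hw, map_inv, inv_eq_iff_mul_eq_one, ← map_mul, ← pow_two] at h1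
    obtain ⟨hd, h2, -⟩ := h.card_fix hb hx1 hxa hxb
    have ho : orderOf x = n := (hp.eq_one_or_self_of_dvd _ hd).resolve_left (by omega)
    have h3 : (π x) ^ n = 1 := by rw [← map_pow, ← ho, pow_orderOf_eq_one, map_one]
    have h4 := pow_gcd_eq_one.mpr ⟨(map_pow π x 2) ▸ h1, h3⟩
    have hodd : Nat.gcd 2 n = 1 := by
      refine Nat.coprime_two_left.mpr (hp.odd_of_ne_two (by omega))
    rwa [hodd, pow_one] at h4
  refine (Subgroup.eq_top_iff' K).mpr fun g => (QuotientGroup.eq_one_iff g).mp ?_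
  obtain ⟨j, hj⟩ := Subgroup.mem_zpowers_iff.mp (hdec g)
  rw [hx, one_zpow] at hj
  exact hj.symm

theorem const_zero_arith {n N : ℕ} {ε c : ℤ} (hε : ε = 1 ∨ ε = -1) (h5 : 5 ≤ n) (hp : n.Prime)
    (hqN : n * N + 2 = 2 ^ n) (h : (N : ℤ) * c * c - 2 * ε * c ≤ (n : ℤ) - 1) :
    c = 0 ∨ (n = 5 ∧ N = 6 ∧ c = ε) := by
  by_cases hc : c = 0
  · exact Or.inl hc
  right
  obtain ⟨-, -, hb3⟩ := pow_bounds h5
  have hc1 : 1 ≤ c * c := by nlinarith [mul_self_pos.mpr hc]
  have h2c : 2 * ε * c ≤ 2 * (c * c) := by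
    rcases hε with rfl | rfl <;> nlinarith [sq_nonneg (c - 1), sq_nonneg (c + 1)]
  rcases lt_or_ge n 7 with h7 | h7
  · have hn5 : n = 5 := by
      rcases (show n = 5 ∨ n = 6 by omega) with e | e
      · exact e
      · exact absurd hp (by rw [e]; norm_num)
    subst hn5
    have hN : N = 6 := by norm_num at hqN; omega
    subst hN
    refine ⟨rfl, rfl, ?_⟩
    push_cast at h
    have h1 : c * c ≤ 1 := by linarith
    have h2 : c = 1 ∨ c = -1 := mul_self_eq_one_iff.mp (by linarith)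
    rcases hε with rfl | rfl <;> rcases h2 with rfl | rfl <;> omega
  · exfalso
    have h1 : n + 2 ≤ N := by
      by_contra hle
      have h2 : n * N ≤ n * (n + 1) := Nat.mul_le_mul_left n (by omega)
      have := hb3 h7
      rw [Nat.mul_succ] at h2
      omega
    have h3 : ((n : ℤ) + 2) ≤ N := by exact_mod_cast h1
    nlinarith

theorem degree_arith {n N d A : ℕ} {ε : ℤ} (hε : ε = 1 ∨ ε = -1) (h5 : 5 ≤ n) (hp : n.Prime)
    (hqN : n * N + 2 = 2 ^ n) (hd0 : 0 < d) (hA : (d : ℤ) - ε * n = (((2 ^ n - 1) * A : ℕ) : ℤ))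
    (hb : N * (d * d) ≤ 2 ^ n * ((2 ^ n - 1) * n)) (hdvd : d ∣ 2 ^ n * ((2 ^ n - 1) * n)) :
    ε = 1 ∧ d = n := by
  obtain ⟨-, -, hb3⟩ := pow_bounds h5
  rcases Nat.eq_zero_or_pos A with hA' | hA'
  · rw [hA', mul_zero, Nat.cast_zero] at hA
    rcases hε with rfl | rfl
    · exact ⟨rfl, by omega⟩
    · exfalso; omega
  exfalso
  have h0 : 2 ^ n - 1 ≤ (2 ^ n - 1) * A := Nat.le_mul_of_pos_right _ hA'
  rcases lt_or_ge n 7 with h7 | h7
  · have hn5 : n = 5 := by
      rcases (show n = 5 ∨ n = 6 by omega) with e | e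
      · exact e
      · exact absurd hp (by rw [e]; norm_num)
    subst hn5
    have hN : N = 6 := by norm_num at hqN; omega
    subst hN
    norm_num at hb hdvd hA h0
    have hd28 : d ≤ 28 := by nlinarith
    have h26 : d = 26 := by rcases hε with rfl | rfl <;> omega
    rw [h26] at hdvd
    omega
  · have hb' := hb3 h7
    set q := 2 ^ n with hq
    obtain ⟨Q, hQ⟩ : ∃ Q, q = Q + 1 + n := ⟨q - 1 - n, by omega⟩
    have e1 : q - 1 = Q + n := by omega
    have hQd : Q ≤ d := by rcases hε with rfl | rfl <;> omega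
    rw [e1, hQ] at hb
    have h1 : N * (Q * Q) ≤ (Q + 1 + n) * ((Q + n) * n) :=
      le_trans (Nat.mul_le_mul_left _ (Nat.mul_le_mul hQd hQd)) hb
    have h2 : ((n : ℤ) * N) * (Q * Q) ≤ n * ((Q + 1 + n) * ((Q + n) * n)) := by
      rw [mul_assoc]
      exact_mod_cast Nat.mul_le_mul_left n h1
    have h3 : (n : ℤ) * N = Q + n - 1 := by
      have : n * N + 1 = Q + n := by omega
      have h4 : ((n * N + 1 : ℕ) : ℤ) = ((Q + n : ℕ) : ℤ) := by rw [this]
      push_cast at h4
      linarith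
    rw [h3] at h2
    have hQb : (n : ℤ) * n + n + 3 ≤ Q := by
      have : n * n + n + 3 ≤ Q := by omega
      exact_mod_cast this
    have h7' : (7 : ℤ) ≤ n := by exact_mod_cast h7
    nlinarith [mul_le_mul_of_nonneg_right hQb (mul_self_nonneg (Q : ℤ)),
      mul_le_mul_of_nonneg_right hQb (show (0 : ℤ) ≤ Q * n by positivity),
      mul_le_mul_of_nonneg_right hQb (show (0 : ℤ) ≤ n * n by positivity)]

set_option maxHeartbeats 1000000 in
theorem Hyp.small_false (h : Hyp n a S) (hp : n.Prime) (h5 : 5 ≤ n) {b : Ω} (hb : b ≠ a)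
    (hΦ : Nat.card (stabilizer X a ⊓ stabilizer X b : Subgroup X) = n)
    {x : X} (hxa : x • a = a) (hxb : x • b = b) (hx1 : x ≠ 1) (w : X) (hw : w * x * w⁻¹ = x⁻¹) : False := by
  classical
  haveI := h.finite_omega
  haveI := h.trans
  haveI := h.faith
  haveI := Fintype.ofFinite X
  haveI : Fintype S := Fintype.ofFinite _
  obtain ⟨hb1, hb2, hb3⟩ := pow_bounds h5
  set q := 2 ^ n with hq
  have hcardS : Nat.card S = q - 1 := h.cardS
  obtain ⟨hC, hN, hTI, hCS, hcardX⟩ := h.singer_facts hp h5 hb hΦ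
  have hab : ∀ y ∈ S, ∀ z ∈ S, y * z = z * y := fun y hy z hz => h.comm hy hz
  have hS1 : 1 < Nat.card S := by omega
  obtain ⟨F, ε, c, hε, hF, hsum, hsq, hrow, hsame, -, hzint, hnconst⟩ :=
    exists_ti_family S hTI hC hab n (by rw [hN, h.card_stab hb, hΦ, hcardS, mul_comm]) (by omega)
  set one : IrrCharacter X := ⟨fun _ => 1, isIrrCharacter_one⟩ with hone
  have honeF : one ∉ F := fun hm => by
    obtain ⟨u, -, v, -, -, -, huv⟩ := hnconst one hm
    exact huv rfl
  have hFsq : ∀ y ∈ S, y ≠ 1 → ∑ χ ∈ F, Complex.normSq ((χ : X → ℂ) y) =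
      ((q - 1 : ℕ) : ℝ) - n - 2 * ε * c + (F.card : ℝ) * c * c := by
    intro y hy hy1
    have h1 := hsq y hy hy1
    rw [hcardS] at h1
    simp only [Complex.mul_conj] at h1
    exact_mod_cast h1
  haveI : Nontrivial S := Finite.one_lt_card_iff_nontrivial.mp hS1
  obtain ⟨⟨y, hy⟩, hy1'⟩ := _root_.exists_ne (1 : S)
  have hy1 : y ≠ 1 := fun e => hy1' (Subtype.ext e)
  have hcol := column_normSq y
  rw [hCS y hy hy1, ← Finset.sum_add_sum_compl F, hFsq y hy hy1] at hcol
  have honec : one ∈ Fᶜ := Finset.mem_compl.mpr honeF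
  have hrest : ((F.card : ℤ) * c * c - 2 * ε * c : ℤ) ≤ (n : ℤ) - 1 := by
    have h1 : (1 : ℝ) ≤ ∑ χ ∈ Fᶜ, Complex.normSq ((χ : X → ℂ) y) := by
      refine le_trans (le_of_eq ?_) (Finset.single_le_sum (fun χ _ => Complex.normSq_nonneg _) honec)
      simp [hone]
    have h2 : ((F.card : ℝ) * c * c - 2 * ε * c) ≤ (n : ℝ) - 1 := by linarith
    exact_mod_cast h2
  have hdeg : ∀ χ ∈ F, ∀ ψ ∈ F, (χ : X → ℂ) 1 = (ψ : X → ℂ) 1 := fun χ hχ ψ hψ =>
    hsame χ hχ ψ hψ 1 fun z _ => rfl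
  obtain ⟨χ₀, hχ₀⟩ : F.Nonempty := Finset.card_pos.mp (by
    rcases Nat.eq_zero_or_pos F.card with h0 | h0
    · rw [h0, mul_zero, zero_add, hcardS] at hF; omega
    · exact h0)
  set d := deg (χ₀ : X → ℂ) with hd
  have hd1 : (χ₀ : X → ℂ) 1 = d := char_one_eq_deg (irr_isCharacter χ₀.2)
  have hd0 : 0 < d := Nat.pos_of_ne_zero fun e => irr_one_ne_zero χ₀.2 (by rw [hd1, e, Nat.cast_zero])
  have hqN : n * F.card + 2 = q := by rw [hcardS] at hF; omega
  -- the constant is zero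
  have hc0 : c = 0 := by
    rcases const_zero_arith hε h5 hp hqN hrest with hc | ⟨hn5, hN6, hce⟩
    · exact hc
    exfalso
    subst hce
    -- all other characters vanish at `y`
    have h1 : ∑ χ ∈ Fᶜ, Complex.normSq ((χ : X → ℂ) y) = 1 := by
      have h31 : ((q - 1 : ℕ) : ℝ) = 31 := by rw [hq, hn5]; norm_num
      rcases hε with rfl | rfl <;> · rw [hN6, h31, hn5] at hcol; push_cast at hcol; linarith
    rw [← Finset.add_sum_erase _ _ honec, show Complex.normSq ((one : X → ℂ) y) = 1 by simp [hone],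
      add_eq_left] at h1
    have hz := (Finset.sum_eq_zero_iff_of_nonneg fun χ _ => Complex.normSq_nonneg _).mp h1
    have hreg := second_orth (G := X) y 1
    rw [if_neg (fun e => hy1 (isConj_one_left.mp e))] at hreg
    rw [← Finset.sum_add_sum_compl F, ← Finset.add_sum_erase _ _ honec,
      Finset.sum_eq_zero (s := Fᶜ.erase one) (fun χ hχ => by
        rw [Complex.normSq_eq_zero.mp (hz χ hχ), zero_mul]), add_zero,
      Finset.sum_congr rfl (fun χ hχ => by rw [hdeg χ hχ χ₀ hχ₀, hd1, Complex.conj_natCast]),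
      ← Finset.sum_mul, hsum y hy hy1, hN6] at hreg
    have h2 : ((-c + 6 * c) * (d : ℤ) + 1 : ℤ) = 0 := by
      have : ((((-c + 6 * c) * (d : ℤ) + 1 : ℤ)) : ℂ) = 0 := by
        rw [← hreg]; push_cast; simp [hone]
      exact_mod_cast this
    rcases hε with rfl | rfl <;> omega
  subst hc0
  -- the multiplicity of the principal character of `S`
  have hA : ∀ χ : IrrCharacter X, ∃ A : ℕ, ∑ k : S, (χ : X → ℂ) k = ((q - 1) * A : ℕ) := by
    intro χ
    obtain ⟨A, hA⟩ := classInner_natCast (isCharacter_comp S.subtype (irr_isCharacter χ.2))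
      (isCharacter_one (G := S))
    refine ⟨A, ?_⟩
    have hS0 : (Nat.card S : ℂ) ≠ 0 := Nat.cast_ne_zero.mpr Nat.card_pos.ne'
    simp only [classInner, map_one, mul_one, Function.comp_apply, Subgroup.coe_subtype] at hA
    rw [inv_mul_eq_iff_eq_mul₀ hS0, hcardS] at hA
    rw [hA, Nat.cast_mul]
  obtain ⟨A, hA0⟩ := hA χ₀
  rw [← Finset.add_sum_erase _ _ (Finset.mem_univ (1 : S)), hrow χ₀ hχ₀, OneMemClass.coe_one, hd1] at hA0
  have hA1 : (d : ℤ) - ε * n = ((q - 1) * A : ℕ) := by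
    have e : (((d : ℤ) - ε * n : ℤ) : ℂ) = ((((q - 1) * A : ℕ) : ℤ) : ℂ) := by
      rw [Int.cast_natCast, ← hA0]; push_cast; ring
    exact_mod_cast e
  have hbound : F.card * (d * d) ≤ Nat.card X := by
    have hcol1 := column_normSq (1 : X)
    have htop : Subgroup.centralizer ({1} : Set X) = ⊤ :=
      eq_top_iff.mpr fun g _ => Subgroup.mem_centralizer_singleton_iff.mpr (by rw [mul_one, one_mul])
    rw [htop, Subgroup.card_top] at hcol1
    have h1 : ∑ χ ∈ F, Complex.normSq ((χ : X → ℂ) 1) ≤ ∑ χ : IrrCharacter X, Complex.normSq ((χ : X → ℂ) 1) :=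
      Finset.sum_le_sum_of_subset_of_nonneg (Finset.subset_univ _) fun χ _ _ => Complex.normSq_nonneg _
    rw [Finset.sum_congr rfl (fun χ hχ => by rw [hdeg χ hχ χ₀ hχ₀, hd1, Complex.normSq_natCast]),
      Finset.sum_const, nsmul_eq_mul, hcol1] at h1
    exact_mod_cast h1
  have hdn : ε = 1 ∧ d = n := by
    rw [hcardX] at hbound
    exact degree_arith hε h5 hp hqN hd0 hA1 hbound (hcardX ▸ deg_dvd_card χ₀.2)
  obtain ⟨rfl, hdn⟩ := hdn
  have hall := h.normal_eq_top hp h5 hb hΦ hxa hxb hx1 w hw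
  -- the square of the absolute value
  set f : X → ℂ := (χ₀ : X → ℂ) * fun g => conj ((χ₀ : X → ℂ) g) with hf
  have hfc : IsCharacter X f :=
    isCharacter_mul (irr_isCharacter χ₀.2) (isCharacter_conj (irr_isCharacter χ₀.2))
  obtain ⟨m, hm⟩ := exists_decomposition hfc
  have hm1 : m one = 1 := by
    have h1 : classInner f (fun _ => 1) = classInner (χ₀ : X → ℂ) (χ₀ : X → ℂ) := by
      simp only [classInner, hf, Pi.mul_apply, map_one, mul_one]
    rw [irr_self χ₀.2, show (fun _ : X => (1 : ℂ)) = (one : X → ℂ) from rfl,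
      decomposition_coeff m hm one] at h1
    exact_mod_cast h1
  have hsumdeg : n * n = ∑ φ, m φ * deg (φ : X → ℂ) := by
    have h1 := congrFun hm 1
    simp only [hf, Pi.mul_apply, Finset.sum_apply, Pi.smul_apply, nsmul_eq_mul, Pi.natCast_apply,
      hd1, map_natCast] at h1
    rw [Finset.sum_congr rfl fun φ _ => by rw [char_one_eq_deg (irr_isCharacter φ.2)]] at h1
    rw [← hdn]
    exact_mod_cast h1
  rw [← Finset.add_sum_erase _ _ (Finset.mem_univ one), hm1, one_mul,
    show deg (one : X → ℂ) = 1 from Nat.cast_injective (R := ℂ)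
      (by rw [← char_one_eq_deg (irr_isCharacter one.2), Nat.cast_one])] at hsumdeg
  have hdvd : n ∣ ∑ φ ∈ Finset.univ.erase one, m φ * deg (φ : X → ℂ) := by
    refine Finset.dvd_sum fun φ hφ => ?_
    rcases Nat.eq_zero_or_pos (m φ) with h0 | h0
    · rw [h0, zero_mul]; exact dvd_zero _
    by_cases hφF : φ ∈ F
    · have e : deg (φ : X → ℂ) = n := Nat.cast_injective (R := ℂ)
        (by rw [← char_one_eq_deg (irr_isCharacter φ.2), hdeg φ hφF χ₀ hχ₀, hd1, hdn])
      rw [e]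
      exact dvd_mul_left _ _
    exfalso
    have hle : deg (φ : X → ℂ) ≤ n * n - 1 := by
      have h1 := Finset.single_le_sum (f := fun φ => m φ * deg (φ : X → ℂ)) (fun _ _ => Nat.zero_le _) hφ
      have h2 := Nat.le_mul_of_pos_left (deg (φ : X → ℂ)) h0
      omega
    obtain ⟨z, hz⟩ := hzint φ hφF
    have hz2 : z * z ≤ (n : ℤ) - 1 := by
      have h1 : Complex.normSq ((φ : X → ℂ) y) + 1 ≤ ∑ χ ∈ Fᶜ, Complex.normSq ((χ : X → ℂ) y) := by
        rw [← Finset.add_sum_erase _ _ honec, show Complex.normSq ((one : X → ℂ) y) = 1 by simp [hone],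
          add_comm]
        exact add_le_add le_rfl (Finset.single_le_sum (f := fun χ : IrrCharacter X => Complex.normSq ((χ : X → ℂ) y))
          (fun χ _ => Complex.normSq_nonneg _)
          (Finset.mem_erase.mpr ⟨Finset.ne_of_mem_erase hφ, Finset.mem_compl.mpr hφF⟩))
      rw [hz y hy hy1, Complex.normSq_intCast] at h1
      push_cast at hcol
      have h2 : ((z : ℝ) * z) ≤ (n : ℝ) - 1 := by linarith
      exact_mod_cast h2
    obtain ⟨B, hB⟩ := hA φ
    rw [← Finset.add_sum_erase _ _ (Finset.mem_univ (1 : S)),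
      Finset.sum_congr rfl (fun (k : S) hk => hz k k.2 (fun e => (Finset.mem_erase.mp hk).1 (Subtype.ext e))),
      Finset.sum_const, Finset.card_erase_of_mem (Finset.mem_univ _), Finset.card_univ,
      ← Nat.card_eq_fintype_card, hcardS, OneMemClass.coe_one,
      char_one_eq_deg (irr_isCharacter φ.2), nsmul_eq_mul] at hB
    have hB' : (deg (φ : X → ℂ) : ℤ) + ((q - 1 - 1 : ℕ) : ℤ) * z = (((q - 1) * B : ℕ) : ℤ) := by
      exact_mod_cast hB
    have hmod : ((q - 1 : ℕ) : ℤ) ∣ (deg (φ : X → ℂ) : ℤ) - z :=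
      ⟨(B : ℤ) - z, by
        rw [Nat.cast_mul, Nat.cast_sub (show 1 ≤ q - 1 by omega), Nat.cast_one] at hB'
        linarith⟩
    have hzn : |z| ≤ (n : ℤ) - 1 := le_trans (by
      rcases eq_or_ne z 0 with rfl | hz0
      · simp
      · have := Int.one_le_abs hz0
        rw [← abs_mul_abs_self z]
        nlinarith) hz2
    obtain ⟨hz3, hz4⟩ := abs_le.mp hzn
    have hle' : (deg (φ : X → ℂ) : ℤ) ≤ (n : ℤ) * n - 1 := by
      have h5 : n * n - 1 + 1 = n * n := Nat.sub_add_cancel (by nlinarith)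
      have h6 : deg (φ : X → ℂ) + 1 ≤ n * n := by omega
      have h7 : ((deg (φ : X → ℂ) + 1 : ℕ) : ℤ) ≤ ((n * n : ℕ) : ℤ) := by exact_mod_cast h6
      push_cast at h7
      linarith
    have hqq : (n : ℤ) * n + n + 2 ≤ ((q - 1 : ℕ) : ℤ) + 1 := by
      have : n * n + n + 2 ≤ q - 1 + 1 := by omega
      exact_mod_cast this
    have heq : (deg (φ : X → ℂ) : ℤ) = z := sub_eq_zero.mp
      (Int.eq_zero_of_abs_lt_dvd hmod (abs_lt.mpr ⟨by linarith [(deg (φ : X → ℂ)).cast_nonneg (α := ℤ)],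
        by linarith⟩))
    refine Finset.ne_of_mem_erase hφ (Subtype.ext (AbTI.classInner_ne_zero_kernel S hall φ fun k hk => ?_))
    by_cases hk1 : k = 1
    · rw [hk1]
    rw [hz k hk hk1, char_one_eq_deg (irr_isCharacter φ.2), ← Int.cast_natCast (R := ℂ) (deg _), heq]
  obtain ⟨M, hM⟩ := hdvd
  rw [hM] at hsumdeg
  have h1 : n ∣ 1 := (Nat.dvd_add_right (dvd_mul_right n M)).mp
    (by rw [add_comm, ← hsumdeg]; exact dvd_mul_right n n)
  exact absurd (Nat.le_of_dvd one_pos h1) (by omega)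

end Cfsg.Agent.Perm.SingerPoint
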