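import Cfsg.Agent.Lib.Perm.SingerPoint.Count
import Cfsg.Agent.Lib.Perm.SingerPoint.Small
import Cfsg.Agent.Lib.Perm.SingerPoint.Galois

/-!
# Transitive groups of degree `2 ^ n` with a Singer cycle in the point stabiliser: the structure

Such a group has a regular normal subgroup of order `2 ^ n` or is the group of order 168 with `n = 3`; it has
no faithful linear action of dimension `n` over the field of two elements except in the second case.
-/

set_option autoImplicit false
set_option linter.unusedSectionVars false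
set_option linter.style.haveILetI false

open MulAction

namespace Cfsg.Agent.Perm.SingerPoint

universe u v w

variable {X : Type u} [Group X] [Finite X] {Ω : Type v} [MulAction X Ω] {n : ℕ} {a : Ω} {S : Subgroup X}

/-- An element fixing two points generates the only subgroup of its order in the two-point stabiliser. -/
theorem Hyp.mem_zpowers_of_fix (h : Hyp n a S) {b : Ω} (hb : b ≠ a) {g g' : X}
    (hga : g • a = a) (hgb : g • b = b) (hga' : g' • a = a) (hgb' : g' • b = b)
    (ho : orderOf g' ∣ orderOf g) : g' ∈ Subgroup.zpowers g := by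
  classical
  set P : Subgroup X := stabilizer X a ⊓ stabilizer X b with hP
  haveI : IsCyclic P := (h.two_point hb).1
  haveI := Fintype.ofFinite P
  let G : P := ⟨g, mem_stabilizer_iff.mpr hga, mem_stabilizer_iff.mpr hgb⟩
  let G' : P := ⟨g', mem_stabilizer_iff.mpr hga', mem_stabilizer_iff.mpr hgb'⟩
  set d := orderOf g with hd
  have hG : orderOf G = d := Subgroup.orderOf_mk g _
  have hsub : ((Subgroup.zpowers G : Subgroup P) : Set P).toFinset ⊆
      Finset.univ.filter fun x : P => x ^ d = 1 := by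
    intro x hx
    rw [Set.mem_toFinset, SetLike.mem_coe] at hx
    obtain ⟨i, rfl⟩ := Subgroup.mem_zpowers_iff.mp hx
    refine Finset.mem_filter.mpr ⟨Finset.mem_univ _, ?_⟩
    rw [← zpow_natCast, ← zpow_mul, mul_comm, zpow_mul, zpow_natCast, ← hG, pow_orderOf_eq_one, one_zpow]
  have heq := Finset.eq_of_subset_of_card_le hsub (by
    rw [Set.toFinset_card, ← Nat.card_eq_fintype_card]
    refine le_trans (IsCyclic.card_pow_eq_one_le (orderOf_pos g)) (le_of_eq ?_)
    show d = Nat.card (Subgroup.zpowers G)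
    rw [Nat.card_zpowers, hG])
  have h1 : G' ∈ ((Subgroup.zpowers G : Subgroup P) : Set P).toFinset := by
    rw [heq]
    refine Finset.mem_filter.mpr ⟨Finset.mem_univ _, ?_⟩
    refine orderOf_dvd_iff_pow_eq_one.mp ?_
    rw [show orderOf G' = orderOf g' from Subgroup.orderOf_mk g' _]
    exact ho
  rw [Set.mem_toFinset, SetLike.mem_coe] at h1
  obtain ⟨i, hi⟩ := Subgroup.mem_zpowers_iff.mp h1
  exact Subgroup.mem_zpowers_iff.mpr ⟨i, congrArg Subtype.val hi⟩

/-- An element fixing two fixed points of `g` commutes with `g` when it lies in `S`. -/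
theorem Hyp.commute_of_fix (h : Hyp n a S) {g y : X} (hy : y ∈ S) {c : Ω} (hc : c ≠ a)
    (hga : g • a = a) (hgc : g • c = c) (hgy : g • y • c = y • c) : y * g = g * y := by
  have hgy' : g * y * g⁻¹ ∈ S := (Subgroup.mem_set_normalizer_iff.mp (h.nor (mem_stabilizer_iff.mpr hga)) y).mp hy
  have e : (y⁻¹ * (g * y * g⁻¹)) • c = c := by
    rw [mul_smul, mul_smul, mul_smul, inv_smul_eq_iff.mpr hgc.symm, hgy, inv_smul_smul]
  have e2 := h.semireg (mul_mem (inv_mem hy) hgy') hc e
  rw [inv_mul_eq_one, eq_mul_inv_iff_mul_eq] at e2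
  exact e2

/-- The centraliser of an element fixing at least three points is transitive on its fixed points. -/
theorem Hyp.exists_commute_smul (h : Hyp n a S) {b : Ω} (hb : b ≠ a) {g : X}
    (hga : g • a = a) (hgb : g • b = b) (h3 : 3 ≤ Nat.card {c : Ω // g • c = c})
    {c : Ω} (hc : g • c = c) : ∃ k : X, k * g = g * k ∧ k • a = c := by
  classical
  haveI := h.finite_omega
  by_cases hca : c = a
  · exact ⟨1, by rw [one_mul, mul_one], by rw [one_smul, hca]⟩
  obtain ⟨b', hb'g, hb'a, hb'b⟩ : ∃ b' : Ω, g • b' = b' ∧ b' ≠ a ∧ b' ≠ b := by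
    by_contra hno
    push Not at hno
    have h1 : ({c : Ω | g • c = c} : Set Ω) ⊆ {a, b} := fun x hx => by
      by_cases hxa : x = a
      · exact Or.inl hxa
      · exact Or.inr (hno x hx hxa)
    have h2 := Set.ncard_le_ncard h1 (Set.toFinite _)
    have h4 : ({a, b} : Set Ω).ncard = 2 := Set.ncard_pair hb.symm
    have h5 : 3 ≤ Set.ncard {c : Ω | g • c = c} := h3
    omega
  obtain ⟨y, hy, hyb⟩ := h.reg b hb b' hb'a
  have hyg : y * g = g * y := h.commute_of_fix hy hb hga hgb (by rw [hyb]; exact hb'g)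
  obtain ⟨k, hka, hkb⟩ := h.two_trans hb.symm hb
  have hk1 : (k⁻¹ * g * k) • a = a := by
    rw [mul_smul, mul_smul, hka, hgb, inv_smul_eq_iff, hka]
  have hk2 : (k⁻¹ * g * k) • b = b := by
    rw [mul_smul, mul_smul, hkb, hga, inv_smul_eq_iff, hkb]
  have hord : orderOf (k⁻¹ * g * k) = orderOf g := by
    have e : k⁻¹ * g * k = MulAut.conj k⁻¹ g := by rw [MulAut.conj_apply, inv_inv]
    rw [e, MulEquiv.orderOf_eq]
  obtain ⟨i, hi⟩ := Subgroup.mem_zpowers_iff.mp (h.mem_zpowers_of_fix hb hga hgb hk1 hk2 hord.dvd)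
  have hyc : Commute y (k⁻¹ * g * k) := hi ▸ (show Commute y g from hyg).zpow_right i
  set m := k * y * k⁻¹ with hm
  have hmg : m * g = g * m := by
    calc m * g = k * (y * (k⁻¹ * g * k)) * k⁻¹ := by rw [hm]; group
      _ = k * ((k⁻¹ * g * k) * y) * k⁻¹ := by rw [hyc.eq]
      _ = g * m := by rw [hm]; group
  have hma : m • a ≠ a := by
    intro e
    rw [hm, mul_smul, mul_smul, inv_smul_eq_iff.mpr hkb.symm, hyb] at e
    exact hb'b (smul_left_cancel k (e.trans hkb.symm))
  have hmfix : g • m • a = m • a := by rw [← mul_smul, ← hmg, mul_smul, hga]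
  obtain ⟨z, hz, hzc⟩ := h.reg _ hma c hca
  have hzg : z * g = g * z := h.commute_of_fix hz hma hga hmfix (by rw [hzc]; exact hc)
  exact ⟨z * m, by rw [mul_assoc, hmg, ← mul_assoc, hzg, mul_assoc], by rw [mul_smul, hzc]⟩

theorem dvd_sub_one_of_sq {n : ℕ} {j : ℤ} (hn : Odd n) (h1 : 1 < n) (hnp : ¬ n.Prime)
    (hsq : (n : ℤ) ∣ j * j - 1) (hp : ∀ p : ℕ, p.Prime → p ∣ n → ((n / p : ℕ) : ℤ) ∣ j - 1) :
    (n : ℤ) ∣ j - 1 := by
  have hall : ∀ r : ℕ, r.Prime → r ∣ n → (r : ℤ) ∣ j - 1 := by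
    intro r hr hrn
    obtain ⟨t, ht⟩ := hrn
    have ht1 : t ≠ 1 := fun e => hnp (by rw [ht, e, mul_one]; exact hr)
    obtain ⟨s, hs, t', ht'⟩ := Nat.exists_prime_and_dvd ht1
    have hsn : s ∣ n := ⟨r * t', by rw [ht, ht']; ring⟩
    have e : n / s = r * t' := Nat.div_eq_of_eq_mul_left hs.pos (by rw [ht, ht']; ring)
    exact dvd_trans (by rw [e, Nat.cast_mul]; exact dvd_mul_right _ _) (hp s hs hsn)
  have hcop : IsCoprime (n : ℤ) (j + 1) := by
    rw [Int.isCoprime_iff_gcd_eq_one]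
    by_contra hg
    obtain ⟨r, hr, hrd⟩ := Nat.exists_prime_and_dvd hg
    have hr1 : r ∣ n := Int.natCast_dvd_natCast.mp
      ((Int.natCast_dvd_natCast.mpr hrd).trans (Int.gcd_dvd_left _ _))
    have hr2 : (r : ℤ) ∣ j + 1 := (Int.natCast_dvd_natCast.mpr hrd).trans (Int.gcd_dvd_right _ _)
    have hr3 : (r : ℤ) ∣ 2 := by simpa using dvd_sub hr2 (hall r hr hr1)
    have hr4 : r = 2 := (Nat.prime_dvd_prime_iff_eq hr Nat.prime_two).mp (Int.natCast_dvd_natCast.mp hr3)
    subst hr4
    exact absurd (even_iff_two_dvd.mpr hr1) (Nat.not_even_iff_odd.mpr hn)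
  refine hcop.dvd_of_dvd_mul_left ?_
  rw [show (j + 1) * (j - 1) = j * j - 1 by ring]
  exact hsq

set_option maxHeartbeats 800000 in
/-- A regular normal subgroup of order `2 ^ n`, or the group of order 168. -/
theorem Hyp.normal_regular (h : Hyp n a S) :
    (∃ P : Subgroup X, P.Normal ∧ Nat.card P = 2 ^ n ∧ IsPretransitive P Ω) ∨
      (n = 3 ∧ Nat.card X = 168) := by
  classical
  haveI := h.finite_omega
  by_cases hC : ∀ b : Ω, b ≠ a → ∀ g : X, g ≠ 1 → g • a = a → g • b = b →
      ∀ c : Ω, g • c = c → ∃ k : X, k * g = g * k ∧ k • a = c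
  · exact Or.inl (h.regular_of_centralizer hC)
  push Not at hC
  obtain ⟨b, hb, g, hg, hga, hgb, c, hc, hno⟩ := hC
  have hn3 := h.three
  obtain ⟨hdvd, ho2, hfix⟩ := h.card_fix hb hg hga hgb
  have ho : orderOf g = n := by
    by_contra hne
    obtain ⟨m, hm⟩ := hdvd
    have hm2 : 2 ≤ m := by
      rcases m with _ | _ | m
      · omega
      · omega
      · omega
    have e : n / orderOf g = m := by rw [hm, Nat.mul_div_cancel_left _ (orderOf_pos g)]
    rw [e] at hfix
    obtain ⟨k, hk1, hk2⟩ := h.exists_commute_smul hb hga hgb (by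
      rw [hfix]; exact le_trans (by norm_num) (Nat.pow_le_pow_right (show 2 > 0 by norm_num) hm2)) hc
    exact hno k hk1 hk2
  rw [ho, Nat.div_self (by omega), pow_one] at hfix
  have hcb : c = b := by
    have hca : c ≠ a := fun e => hno 1 (by rw [one_mul, mul_one]) (by rw [one_smul, e])
    by_contra hne
    have hsub : ({a, b, c} : Set Ω) ⊆ {x | g • x = x} := by
      rintro x (rfl | rfl | rfl)
      exacts [hga, hgb, hc]
    have h1 : ({a, b, c} : Set Ω).ncard = 3 :=
      Set.ncard_eq_three.mpr ⟨a, b, c, hb.symm, hca.symm, Ne.symm hne, rfl⟩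
    have h2 := Set.ncard_le_ncard hsub (Set.toFinite _)
    have h3 : Set.ncard {x : Ω | g • x = x} = 2 := hfix
    omega
  subst c
  -- the two-point stabiliser has order `n`
  have hΦ : Nat.card (stabilizer X a ⊓ stabilizer X b : Subgroup X) = n := by
    refine Nat.dvd_antisymm (h.two_point hb).2 ?_
    rw [← ho]
    exact Subgroup.orderOf_dvd_natCard _ ⟨mem_stabilizer_iff.mpr hga, mem_stabilizer_iff.mpr hgb⟩
  have hodd : Odd n := by
    refine Odd.of_dvd_nat h.odd ?_
    rw [← ho]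
    exact Subgroup.orderOf_dvd_natCard _ (mem_stabilizer_iff.mpr hga)
  have hΦmem : ∀ x : X, x • a = a → x • b = b → x ∈ Subgroup.zpowers g := fun x hxa hxb =>
    h.mem_zpowers_of_fix hb hga hgb hxa hxb (by
      rw [ho, ← hΦ]
      exact Subgroup.orderOf_dvd_natCard _ ⟨mem_stabilizer_iff.mpr hxa, mem_stabilizer_iff.mpr hxb⟩)
  have hcomm : ∀ x : X, x • a = a → x • b = b → Commute x g := fun x hxa hxb => by
    obtain ⟨i, rfl⟩ := Subgroup.mem_zpowers_iff.mp (hΦmem x hxa hxb)
    exact (Commute.refl g).zpow_left i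
  obtain ⟨w, hwa, hwb⟩ := h.two_trans hb.symm hb
  have hwga : (w * g * w⁻¹) • a = a := by
    rw [mul_smul, mul_smul, inv_smul_eq_iff.mpr hwb.symm, hgb, hwb]
  have hwgb : (w * g * w⁻¹) • b = b := by
    rw [mul_smul, mul_smul, inv_smul_eq_iff.mpr hwa.symm, hga, hwa]
  obtain ⟨j, hj⟩ := Subgroup.mem_zpowers_iff.mp (hΦmem _ hwga hwgb)
  have hzp : ∀ k : ℤ, w * g ^ k * w⁻¹ = g ^ (j * k) := fun k => by
    rw [← conj_zpow, ← hj, ← zpow_mul]
  have hw2 : Commute (w * w) g := hcomm _ (by rw [mul_smul, hwa, hwb]) (by rw [mul_smul, hwb, hwa])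
  have hsq : (n : ℤ) ∣ j * j - 1 := by
    have e : g ^ (j * j) = g ^ (1 : ℤ) := by
      rw [← hzp j, hj, zpow_one]
      calc w * (w * g * w⁻¹) * w⁻¹ = (w * w) * g * (w * w)⁻¹ := by group
        _ = g := by rw [hw2.eq, mul_inv_cancel_right]
    have := orderOf_dvd_sub_iff_zpow_eq_zpow.mpr e
    rwa [ho] at this
  have hj1 : ¬ (n : ℤ) ∣ j - 1 := fun hd => by
    have e : g ^ j = g ^ (1 : ℤ) := orderOf_dvd_sub_iff_zpow_eq_zpow.mp (by rwa [ho])
    rw [hj, zpow_one, mul_inv_eq_iff_eq_mul] at e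
    exact hno w e hwa
  have hprime : n.Prime := by
    by_contra hnp
    refine hj1 (dvd_sub_one_of_sq hodd (by omega) hnp hsq fun p hp hpn => ?_)
    have hnp' : 2 ≤ n / p := by
      obtain ⟨t, ht⟩ := hpn
      rw [ht, Nat.mul_div_cancel_left _ hp.pos]
      rcases t with _ | _ | t
      · omega
      · exact absurd (ht.trans (mul_one p)) (fun e => hnp (e ▸ hp))
      · omega
    have hgp : orderOf (g ^ p) = n / p := by
      rw [orderOf_pow, ho, Nat.gcd_eq_right hpn]
    have hgpne : g ^ p ≠ 1 := fun e => by rw [e, orderOf_one] at hgp; omega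
    have hpa : (g ^ p) • a = a := mem_stabilizer_iff.mp (pow_mem (mem_stabilizer_iff.mpr hga) p)
    have hpb : (g ^ p) • b = b := mem_stabilizer_iff.mp (pow_mem (mem_stabilizer_iff.mpr hgb) p)
    obtain ⟨-, -, hfp⟩ := h.card_fix hb hgpne hpa hpb
    rw [hgp, Nat.div_div_self hpn (by omega)] at hfp
    have hge3 : 3 ≤ Nat.card {x : Ω // (g ^ p) • x = x} := by
      rw [hfp]; exact le_trans (by norm_num) (Nat.pow_le_pow_right (show 2 > 0 by norm_num) hp.two_le)
    obtain ⟨k, hk, hka⟩ := h.exists_commute_smul hb hpa hpb hge3 hpb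
    have hne : k⁻¹ • a ≠ a := fun e => hb (by rw [← hka]; exact (inv_smul_eq_iff.mp e).symm)
    have hkfix : (g ^ p) • k⁻¹ • a = k⁻¹ • a := by
      rw [← mul_smul, ← (show Commute k (g ^ p) from hk).inv_left.eq, mul_smul, hpa]
    obtain ⟨y, hy, hyb⟩ := h.reg b hb _ hne
    have hyg := h.commute_of_fix hy hb hpa hpb (by rw [hyb]; exact hkfix)
    set k' := k * y with hk'
    have hk'a : k' • a = b := by rw [hk', mul_smul, h.fix_a hy, hka]
    have hk'b : k' • b = a := by rw [hk', mul_smul, hyb, smul_inv_smul]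
    have hk'g : Commute k' (g ^ p) := Commute.mul_left hk hyg
    have hd : Commute (w⁻¹ * k') g := hcomm _ (by rw [mul_smul, hk'a, inv_smul_eq_iff, hwa])
      (by rw [mul_smul, hk'b, inv_smul_eq_iff, hwb])
    have hwp : w * g ^ p * w⁻¹ = g ^ p := by
      calc w * g ^ p * w⁻¹ = w * ((w⁻¹ * k') * g ^ p * (w⁻¹ * k')⁻¹) * w⁻¹ := by
            rw [(hd.pow_right p).eq, mul_inv_cancel_right]
        _ = k' * g ^ p * k'⁻¹ := by group
        _ = g ^ p := by rw [hk'g.eq, mul_inv_cancel_right]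
    rw [← zpow_natCast, hzp] at hwp
    have h1 := orderOf_dvd_sub_iff_zpow_eq_zpow.mpr hwp
    rw [ho, show j * (p : ℤ) - (p : ℤ) = (p : ℤ) * (j - 1) by ring] at h1
    refine Int.dvd_of_mul_dvd_mul_left (show (p : ℤ) ≠ 0 by exact_mod_cast hp.ne_zero) ?_
    rw [← Nat.cast_mul, Nat.mul_div_cancel' hpn]
    exact h1
  -- `n` is prime and `w` inverts `g`
  have hwinv : w * g * w⁻¹ = g⁻¹ := by
    rw [← hj, ← zpow_neg_one]
    refine orderOf_dvd_sub_iff_zpow_eq_zpow.mp ?_
    rw [ho, sub_neg_eq_add]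
    rw [show j * j - 1 = (j - 1) * (j + 1) by ring] at hsq
    exact ((Nat.prime_iff_prime_int.mp hprime).dvd_or_dvd hsq).resolve_left hj1
  rcases lt_or_ge n 5 with h5 | h5
  · right
    have h3 : n = 3 := by
      rcases (show n = 3 ∨ n = 4 by omega) with e | e
      · exact e
      · exact absurd hprime (by rw [e]; norm_num)
    refine ⟨h3, ?_⟩
    rw [h.card_group, h.card_stab hb, hΦ, h3]
    norm_num
  · exact (h.small_false hprime h5 hb hΦ hga hgb hg w hwinv).elim

end Cfsg.Agent.Perm.SingerPoint
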